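import Mathlib.Tactic
import Mathlib.Data.Fintype.Perm

/-!
Signed conference matrices of order ten are unique, and the ternary words of length ten that are compatible
with such a matrix are determined.
-/

set_option autoImplicit false
set_option maxRecDepth 100000

namespace Cfsg.Agent.McLUniq

open Finset

/-- The number of agreements of two words. -/
def agree (f g : Fin 10 → Fin 3) : ℕ := (univ.filter fun k => f k = g k).card

/-- The agreements of two lists. -/
def agreeL : List ℕ → List ℕ → ℕ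
  | a :: as, b :: bs => (if a == b then 1 else 0) + agreeL as bs
  | _, _ => 0

/-- A word as a list. -/
def wl (f : Fin 10 → Fin 3) : List ℕ := List.ofFn fun k => (f k).1

theorem agreeL_ofFn : ∀ (n : ℕ) (f g : Fin n → Fin 3),
    (univ.filter fun k => f k = g k).card = agreeL (List.ofFn fun k => (f k).1) (List.ofFn fun k => (g k).1)
  | 0, f, g => by simp [agreeL]
  | n + 1, f, g => by
    rw [List.ofFn_succ, List.ofFn_succ, agreeL, ← agreeL_ofFn n (fun k => f k.succ) (fun k => g k.succ),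
      card_filter, Fin.sum_univ_succ, card_filter]
    simp [Fin.val_eq_val]

theorem agree_eq (f g : Fin 10 → Fin 3) : agree f g = agreeL (wl f) (wl g) := agreeL_ofFn 10 f g

theorem wl_injective : Function.Injective wl := fun f g e => funext fun k =>
  Fin.ext (congrFun (List.ofFn_injective e) k)

theorem agree_comm (f g : Fin 10 → Fin 3) : agree f g = agree g f := by simp only [agree, eq_comm]

theorem agree_perm (π : Equiv.Perm (Fin 10)) (f g : Fin 10 → Fin 3) :
    agree (fun k => f (π k)) (fun k => g (π k)) = agree f g := by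
  rw [agree, agree]
  exact Finset.card_equiv π (by simp)

theorem agree_scale {ε : Fin 10 → Fin 3} (hε : ∀ k, ε k ≠ 0) (f g : Fin 10 → Fin 3) :
    agree (fun k => ε k * f k) (fun k => ε k * g k) = agree f g := by
  rw [agree, agree]
  congr 1
  refine filter_congr fun k _ => ?_
  have := hε k
  revert this
  generalize ε k = e; generalize f k = x; generalize g k = y
  revert e x y; decide

/-- A signed conference matrix. -/
structure IsConf (C : Fin 10 → Fin 10 → Fin 3) : Prop where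
  diag : ∀ i, C i i = 0
  off : ∀ i k, i ≠ k → C i k ≠ 0
  four : ∀ i j, i ≠ j → agree (C i) (C j) = 4

theorem IsConf.perm {C : Fin 10 → Fin 10 → Fin 3} (hC : IsConf C) (π : Equiv.Perm (Fin 10)) :
    IsConf fun i k => C (π i) (π k) :=
  ⟨fun i => hC.diag _, fun i k h => hC.off _ _ (π.injective.ne h),
    fun i j h => (agree_perm π (C (π i)) (C (π j))).trans (hC.four _ _ (π.injective.ne h))⟩

theorem IsConf.scale {C : Fin 10 → Fin 10 → Fin 3} (hC : IsConf C) {δ ε : Fin 10 → Fin 3}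
    (hδ : ∀ i, δ i ≠ 0) (hε : ∀ k, ε k ≠ 0) : IsConf fun i k => δ i * ε k * C i k := by
  refine ⟨fun i => by simp [hC.diag], fun i k h => ?_, fun i j h => ?_⟩
  · have := hδ i; have := hε k; have := hC.off i k h
    revert this; revert this; revert this
    generalize δ i = a; generalize ε k = b; generalize C i k = c
    revert a b c; decide
  · have e : ∀ l k, δ l * ε k * C l k = ε k * (δ l * C l k) := fun l k => by
      generalize δ l = a; generalize ε k = b; generalize C l k = c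
      revert a b c; decide
    simp only [e]
    rw [agree_scale hε]
    have h4 := hC.four i j h
    rw [agree, card_filter] at h4 ⊢
    by_cases hd : δ i = δ j
    · rw [← h4]
      refine sum_congr rfl fun k _ => if_congr ?_ rfl rfl
      have := hδ j
      rw [hd]
      revert this
      generalize δ j = a; generalize C i k = x; generalize C j k = y
      revert a x y; decide
    · have key : ∀ k, (if δ i * C i k = δ j * C j k then 1 else 0) + (if C i k = C j k then 1 else 0)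
          = if k = i ∨ k = j then 0 else 1 := fun k => by
        have := hδ i; have := hδ j
        by_cases hki : k = i
        · subst hki
          have := hC.off j k (Ne.symm h)
          rw [hC.diag]
          revert this hd
          revert this; revert this
          simp only [true_or, if_true]
          generalize δ k = a; generalize δ j = b; generalize C j k = y
          revert a b y; decide
        · by_cases hkj : k = j
          · subst hkj
            have := hC.off i k h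
            rw [hC.diag]
            revert this hd
            revert this; revert this
            simp only [or_true, if_true]
            generalize δ k = b; generalize δ i = a; generalize C i k = x
            revert a b x; decide
          · have := hC.off i k (Ne.symm hki); have := hC.off j k (Ne.symm hkj)
            rw [if_neg (show ¬ (k = i ∨ k = j) from not_or.2 ⟨hki, hkj⟩)]
            revert hd
            revert this; revert this; revert this; revert this
            generalize δ i = a; generalize δ j = b; generalize C i k = x; generalize C j k = y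
            revert a b x y; decide
      have := sum_congr rfl (fun k (_ : k ∈ (univ : Finset (Fin 10))) => key k)
      rw [sum_add_distrib, h4] at this
      have h8 : (∑ k : Fin 10, if k = i ∨ k = j then 0 else 1) = 8 :=
        (show ∀ a b : Fin 10, a ≠ b → (∑ k : Fin 10, if k = a ∨ k = b then 0 else 1) = 8 by decide) i j h
      omega

/-- Products of choices. -/
def prodList : List (List ℕ) → List (List ℕ)
  | [] => [[]]
  | c :: cs => c.flatMap fun a => (prodList cs).map (a :: ·)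

theorem mem_prodList : ∀ (n : ℕ) (c : Fin n → List ℕ) (f : Fin n → ℕ), (∀ k, f k ∈ c k) →
    List.ofFn f ∈ prodList (List.ofFn c)
  | 0, c, f, _ => by simp [prodList]
  | n + 1, c, f, h => by
    rw [List.ofFn_succ, List.ofFn_succ, prodList, List.mem_flatMap]
    exact ⟨f 0, h 0, List.mem_map.2 ⟨_, mem_prodList n _ _ fun k => h k.succ, rfl⟩⟩

/-- The standard matrix, as lists. -/
def c0L : List (List ℕ) := [
  [0, 1, 1, 1, 1, 1, 1, 1, 1, 1],
  [1, 0, 1, 1, 1, 1, 2, 2, 2, 2],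
  [1, 1, 0, 1, 2, 2, 1, 1, 2, 2],
  [1, 1, 1, 0, 2, 2, 2, 2, 1, 1],
  [1, 1, 2, 2, 0, 1, 1, 2, 1, 2],
  [1, 1, 2, 2, 1, 0, 2, 1, 2, 1],
  [1, 2, 1, 2, 1, 2, 0, 1, 1, 2],
  [1, 2, 1, 2, 2, 1, 1, 0, 2, 1],
  [1, 2, 2, 1, 1, 2, 1, 2, 0, 1],
  [1, 2, 2, 1, 2, 1, 2, 1, 1, 0]]

/-- The standard matrix. -/
def c0 (i k : Fin 10) : Fin 3 := Fin.ofNat 3 ((c0L.getD i []).getD k 0)

/-- The possible rows of a normalised matrix. -/
def opts (i : Fin 10) : List (List ℕ) :=
  (prodList (List.ofFn fun k : Fin 10 => if k = i then [0] else if k = 0 then [1] else [1, 2])).filter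
    fun r => agreeL r (wl (c0 0)) == 4

/-- A matrix whose first row and column are standard. -/
structure IsNorm (C : Fin 10 → Fin 10 → Fin 3) : Prop where
  conf : IsConf C
  row : C 0 = c0 0
  col : ∀ i, i ≠ 0 → C i 0 = 1

theorem IsNorm.mem_opts {C : Fin 10 → Fin 10 → Fin 3} (hC : IsNorm C) {i : Fin 10} (hi : i ≠ 0) :
    wl (C i) ∈ opts i := by
  refine List.mem_filter.2 ⟨mem_prodList 10 _ _ fun k => ?_, ?_⟩
  · by_cases hk : k = i
    · simp [hk, hC.conf.diag]
    · rw [if_neg hk]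
      split_ifs with h0
      · simp [h0, hC.col i hi]
      · have := hC.conf.off i k (Ne.symm hk)
        revert this
        generalize C i k = x
        revert x; decide
  · rw [← agree_eq, ← hC.row]
    simpa using hC.conf.four i 0 hi

/-- A map of the ten positions from a list. -/
def posMap (σ : List ℕ) (k : Fin 10) : Fin 10 := Fin.ofNat 10 (σ.getD k 0)

/-- A list gives a permutation. -/
def permOK (σ : List ℕ) : Bool := decide (Function.Injective (posMap σ))

/-- The permutation of a checked list. -/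
noncomputable def permOf (σ : List ℕ) (h : permOK σ = true) : Equiv.Perm (Fin 10) :=
  Equiv.ofBijective (posMap σ) (Finite.injective_iff_bijective.1 (of_decide_eq_true h))

theorem permOf_apply (σ : List ℕ) (h : permOK σ = true) (k : Fin 10) : permOf σ h k = posMap σ k := rfl

/-- Position lists for the second row. -/
def sig1 : List (List ℕ) := [
  [0, 1, 2, 3, 4, 5, 6, 7, 8, 9],
  [0, 1, 2, 3, 4, 6, 5, 7, 8, 9],
  [0, 1, 2, 3, 4, 7, 5, 6, 8, 9],
  [0, 1, 2, 3, 4, 8, 5, 6, 7, 9],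
  [0, 1, 2, 3, 4, 9, 5, 6, 7, 8],
  [0, 1, 2, 3, 5, 6, 4, 7, 8, 9],
  [0, 1, 2, 3, 5, 7, 4, 6, 8, 9],
  [0, 1, 2, 3, 5, 8, 4, 6, 7, 9],
  [0, 1, 2, 3, 5, 9, 4, 6, 7, 8],
  [0, 1, 2, 3, 6, 7, 4, 5, 8, 9],
  [0, 1, 2, 3, 6, 8, 4, 5, 7, 9],
  [0, 1, 2, 3, 6, 9, 4, 5, 7, 8],
  [0, 1, 2, 3, 7, 8, 4, 5, 6, 9],
  [0, 1, 2, 3, 7, 9, 4, 5, 6, 8],
  [0, 1, 2, 3, 8, 9, 4, 5, 6, 7],
  [0, 1, 2, 4, 5, 6, 3, 7, 8, 9],
  [0, 1, 2, 4, 5, 7, 3, 6, 8, 9],
  [0, 1, 2, 4, 5, 8, 3, 6, 7, 9],
  [0, 1, 2, 4, 5, 9, 3, 6, 7, 8],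
  [0, 1, 2, 4, 6, 7, 3, 5, 8, 9],
  [0, 1, 2, 4, 6, 8, 3, 5, 7, 9],
  [0, 1, 2, 4, 6, 9, 3, 5, 7, 8],
  [0, 1, 2, 4, 7, 8, 3, 5, 6, 9],
  [0, 1, 2, 4, 7, 9, 3, 5, 6, 8],
  [0, 1, 2, 4, 8, 9, 3, 5, 6, 7],
  [0, 1, 2, 5, 6, 7, 3, 4, 8, 9],
  [0, 1, 2, 5, 6, 8, 3, 4, 7, 9],
  [0, 1, 2, 5, 6, 9, 3, 4, 7, 8],
  [0, 1, 2, 5, 7, 8, 3, 4, 6, 9],
  [0, 1, 2, 5, 7, 9, 3, 4, 6, 8],
  [0, 1, 2, 5, 8, 9, 3, 4, 6, 7],
  [0, 1, 2, 6, 7, 8, 3, 4, 5, 9],
  [0, 1, 2, 6, 7, 9, 3, 4, 5, 8],
  [0, 1, 2, 6, 8, 9, 3, 4, 5, 7],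
  [0, 1, 2, 7, 8, 9, 3, 4, 5, 6],
  [0, 1, 3, 4, 5, 6, 2, 7, 8, 9],
  [0, 1, 3, 4, 5, 7, 2, 6, 8, 9],
  [0, 1, 3, 4, 5, 8, 2, 6, 7, 9],
  [0, 1, 3, 4, 5, 9, 2, 6, 7, 8],
  [0, 1, 3, 4, 6, 7, 2, 5, 8, 9],
  [0, 1, 3, 4, 6, 8, 2, 5, 7, 9],
  [0, 1, 3, 4, 6, 9, 2, 5, 7, 8],
  [0, 1, 3, 4, 7, 8, 2, 5, 6, 9],
  [0, 1, 3, 4, 7, 9, 2, 5, 6, 8],
  [0, 1, 3, 4, 8, 9, 2, 5, 6, 7],
  [0, 1, 3, 5, 6, 7, 2, 4, 8, 9],
  [0, 1, 3, 5, 6, 8, 2, 4, 7, 9],
  [0, 1, 3, 5, 6, 9, 2, 4, 7, 8],
  [0, 1, 3, 5, 7, 8, 2, 4, 6, 9],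
  [0, 1, 3, 5, 7, 9, 2, 4, 6, 8],
  [0, 1, 3, 5, 8, 9, 2, 4, 6, 7],
  [0, 1, 3, 6, 7, 8, 2, 4, 5, 9],
  [0, 1, 3, 6, 7, 9, 2, 4, 5, 8],
  [0, 1, 3, 6, 8, 9, 2, 4, 5, 7],
  [0, 1, 3, 7, 8, 9, 2, 4, 5, 6],
  [0, 1, 4, 5, 6, 7, 2, 3, 8, 9],
  [0, 1, 4, 5, 6, 8, 2, 3, 7, 9],
  [0, 1, 4, 5, 6, 9, 2, 3, 7, 8],
  [0, 1, 4, 5, 7, 8, 2, 3, 6, 9],
  [0, 1, 4, 5, 7, 9, 2, 3, 6, 8],
  [0, 1, 4, 5, 8, 9, 2, 3, 6, 7],
  [0, 1, 4, 6, 7, 8, 2, 3, 5, 9],
  [0, 1, 4, 6, 7, 9, 2, 3, 5, 8],
  [0, 1, 4, 6, 8, 9, 2, 3, 5, 7],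
  [0, 1, 4, 7, 8, 9, 2, 3, 5, 6],
  [0, 1, 5, 6, 7, 8, 2, 3, 4, 9],
  [0, 1, 5, 6, 7, 9, 2, 3, 4, 8],
  [0, 1, 5, 6, 8, 9, 2, 3, 4, 7],
  [0, 1, 5, 7, 8, 9, 2, 3, 4, 6],
  [0, 1, 6, 7, 8, 9, 2, 3, 4, 5]]

/-- Position lists for the third row. -/
def sig2 : List (List ℕ) := [
  [0, 1, 2, 3, 4, 5, 6, 7, 8, 9],
  [0, 1, 2, 3, 4, 5, 6, 8, 7, 9],
  [0, 1, 2, 3, 4, 5, 6, 9, 7, 8],
  [0, 1, 2, 3, 4, 5, 7, 8, 6, 9],
  [0, 1, 2, 3, 4, 5, 7, 9, 6, 8],
  [0, 1, 2, 3, 4, 5, 8, 9, 6, 7],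
  [0, 1, 2, 4, 3, 5, 6, 7, 8, 9],
  [0, 1, 2, 4, 3, 5, 6, 8, 7, 9],
  [0, 1, 2, 4, 3, 5, 6, 9, 7, 8],
  [0, 1, 2, 4, 3, 5, 7, 8, 6, 9],
  [0, 1, 2, 4, 3, 5, 7, 9, 6, 8],
  [0, 1, 2, 4, 3, 5, 8, 9, 6, 7],
  [0, 1, 2, 5, 3, 4, 6, 7, 8, 9],
  [0, 1, 2, 5, 3, 4, 6, 8, 7, 9],
  [0, 1, 2, 5, 3, 4, 6, 9, 7, 8],
  [0, 1, 2, 5, 3, 4, 7, 8, 6, 9],
  [0, 1, 2, 5, 3, 4, 7, 9, 6, 8],
  [0, 1, 2, 5, 3, 4, 8, 9, 6, 7]]

/-- The candidates with standard first rows. -/
def comp : List (List ℕ) → List (Fin 10) → List (List (List ℕ))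
  | rows, [] => [rows]
  | rows, i :: is =>
    ((opts i).filter fun r => rows.all fun s => agreeL r s == 4).flatMap fun r => comp (rows ++ [r]) is

/-- Position lists for the last step. -/
def sig3 : List (List ℕ) := [
  [0, 1, 2, 3, 4, 5, 6, 7, 8, 9],
  [0, 1, 2, 3, 4, 5, 6, 7, 9, 8],
  [0, 1, 2, 3, 4, 5, 7, 6, 8, 9],
  [0, 1, 2, 3, 4, 5, 7, 6, 9, 8]]

theorem step1_check : ((opts 1).all fun r => sig1.any fun σ => permOK σ && (posMap σ 0 == 0) && (posMap σ 1 == 1)
    && (wl (fun k => Fin.ofNat 3 (r.getD (posMap σ k) 0)) == wl (c0 1))) = true := by decide +kernel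

theorem step2_check : ((opts 2).all fun r => !(agreeL r (wl (c0 1)) == 4) || sig2.any fun σ => permOK σ
    && (posMap σ 0 == 0) && (posMap σ 1 == 1) && (posMap σ 2 == 2)
    && (wl (fun k => c0 1 (posMap σ k)) == wl (c0 1))
    && (wl (fun k => Fin.ofNat 3 (r.getD (posMap σ k) 0)) == wl (c0 2))) = true := by decide +kernel

theorem step3_check : ((comp [wl (c0 0), wl (c0 1), wl (c0 2)] [3, 4, 5, 6, 7, 8, 9]).all fun R =>
    sig3.any fun σ => permOK σ && ((List.ofFn fun i => List.ofFn fun k =>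
      (R.getD (posMap σ i) []).getD (posMap σ k) 0) == c0L)) = true := by decide +kernel

theorem getD_ofFn {α : Type*} (g : Fin 10 → α) (k : Fin 10) (d : α) : (List.ofFn g).getD k d = g k := by
  rw [List.getD_eq_getElem?_getD, List.getElem?_eq_getElem (by simp), List.getElem_ofFn]
  rfl

theorem getD_wl (f : Fin 10 → Fin 3) (k : Fin 10) : (wl f).getD k 0 = (f k).1 := getD_ofFn _ k 0

theorem IsNorm.step {C : Fin 10 → Fin 10 → Fin 3} (hC : IsNorm C) (π : Equiv.Perm (Fin 10)) (h0 : π 0 = 0) :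
    IsNorm fun i k => C (π i) (π k) := by
  refine ⟨hC.conf.perm π, ?_, fun i hi => ?_⟩
  · funext k
    show C (π 0) (π k) = _
    rw [h0, hC.row]
    by_cases hk : k = 0
    · rw [hk, h0]
    · have hk' : π k ≠ 0 := fun e => hk (π.injective (e.trans h0.symm))
      revert hk hk'
      generalize π k = m
      revert k m; decide
  · show C (π i) (π 0) = 1
    rw [h0]
    exact hC.col _ fun e => hi (π.injective (e.trans h0.symm))

theorem IsNorm.exists_row_one {C : Fin 10 → Fin 10 → Fin 3} (hC : IsNorm C) :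
    ∃ π : Equiv.Perm (Fin 10), IsNorm (fun i k => C (π i) (π k)) ∧ (fun k => C (π 1) (π k)) = c0 1 := by
  have h := List.all_eq_true.1 step1_check _ (hC.mem_opts (i := 1) (by decide))
  obtain ⟨σ, -, hσ⟩ := List.any_eq_true.1 h
  simp only [Bool.and_eq_true, beq_iff_eq] at hσ
  obtain ⟨⟨⟨h1, h2⟩, h3⟩, h4⟩ := hσ
  refine ⟨permOf σ h1, hC.step _ h2, wl_injective (Eq.trans ?_ h4)⟩
  refine congrArg wl (funext fun k => ?_)
  rw [permOf_apply, permOf_apply, h3, getD_wl]
  exact Fin.ext (Nat.mod_eq_of_lt (C 1 _).2).symm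

theorem IsNorm.exists_row_two {C : Fin 10 → Fin 10 → Fin 3} (hC : IsNorm C) (h1' : C 1 = c0 1) :
    ∃ π : Equiv.Perm (Fin 10), IsNorm (fun i k => C (π i) (π k)) ∧ (fun k => C (π 1) (π k)) = c0 1
      ∧ (fun k => C (π 2) (π k)) = c0 2 := by
  have h := List.all_eq_true.1 step2_check _ (hC.mem_opts (i := 2) (by decide))
  rw [← agree_eq, ← h1', hC.conf.four 2 1 (by decide)] at h
  simp only [beq_self_eq_true, Bool.not_true, Bool.false_or] at h
  obtain ⟨σ, -, hσ⟩ := List.any_eq_true.1 h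
  simp only [Bool.and_eq_true, beq_iff_eq] at hσ
  obtain ⟨⟨⟨⟨⟨h1, h2⟩, h3⟩, h4⟩, h5⟩, h6⟩ := hσ
  refine ⟨permOf σ h1, hC.step _ h2, ?_, wl_injective (Eq.trans ?_ h6)⟩
  · rw [← h1']
    refine wl_injective (Eq.trans ?_ h5)
    refine congrArg wl (funext fun k => ?_)
    rw [permOf_apply, permOf_apply, h3]
  · refine congrArg wl (funext fun k => ?_)
    rw [permOf_apply, permOf_apply, h4, getD_wl]
    exact Fin.ext (Nat.mod_eq_of_lt (C 2 _).2).symm

theorem mem_comp {C : Fin 10 → Fin 10 → Fin 3} (hC : IsNorm C) : ∀ (is done : List (Fin 10)),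
    (done ++ is).Nodup → (∀ i ∈ is, i ≠ 0) →
    done.map (fun i => wl (C i)) ++ is.map (fun i => wl (C i)) ∈ comp (done.map fun i => wl (C i)) is
  | [], done, _, _ => by simp [comp]
  | i :: is, done, hn, h0 => by
    rw [comp, List.mem_flatMap]
    refine ⟨wl (C i), List.mem_filter.2 ⟨hC.mem_opts (h0 i (List.mem_cons_self ..)), List.all_eq_true.2 ?_⟩, ?_⟩
    · intro s hs
      obtain ⟨j, hj, rfl⟩ := List.mem_map.1 hs
      rw [← agree_eq, beq_iff_eq]
      refine hC.conf.four _ _ fun e => ?_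
      rw [List.nodup_append] at hn
      exact hn.2.2 j hj i (List.mem_cons_self ..) e.symm
    · have := mem_comp hC is (done ++ [i]) (by simpa using hn) fun j hj => h0 j (List.mem_cons_of_mem _ hj)
      simpa using this

/-- A signed conference matrix of order ten is unique up to positions and signs. -/
theorem conf_unique {C : Fin 10 → Fin 10 → Fin 3} (hC : IsConf C) :
    ∃ (π : Equiv.Perm (Fin 10)) (δ ε : Fin 10 → Fin 3), (∀ i, δ i ≠ 0) ∧ (∀ k, ε k ≠ 0) ∧
      ∀ i k, δ i * ε k * C (π i) (π k) = c0 i k := by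
  set ε : Fin 10 → Fin 3 := fun k => if k = 0 then 1 else C 0 k with hε
  set δ : Fin 10 → Fin 3 := fun i => if i = 0 then 1 else C i 0 with hδ
  have hε0 : ∀ k, ε k ≠ 0 := fun k => by
    simp only [hε]; split_ifs with hk
    · simp [hk]
    · simpa [hk] using hC.off 0 k (Ne.symm hk)
  have hδ0 : ∀ i, δ i ≠ 0 := fun i => by
    simp only [hδ]; split_ifs with hk
    · simp [hk]
    · simpa [hk] using hC.off i 0 hk
  have hN : IsNorm fun i k => δ i * ε k * C i k := by
    refine ⟨hC.scale hδ0 hε0, ?_, fun i hi => ?_⟩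
    · funext k
      rcases eq_or_ne k 0 with rfl | hk
      · simp [hC.diag]; decide
      · have := hC.off 0 k hk.symm
        simp only [hδ, hε, if_true, if_neg hk]
        revert this hk
        generalize C 0 k = x
        revert k x; decide
    · have := hC.off i 0 hi
      simp only [hδ, hε, if_true, if_neg hi]
      revert this
      generalize C i 0 = x
      revert x; decide
  obtain ⟨π₁, n1, e1⟩ := hN.exists_row_one
  obtain ⟨π₂, n2, e2, e2'⟩ := n1.exists_row_two e1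
  have hmem := mem_comp n2 [3, 4, 5, 6, 7, 8, 9] [0, 1, 2] (by decide) (by decide)
  simp only [List.map_cons, List.map_nil, n2.row, e2, e2'] at hmem
  obtain ⟨σ, -, hσ⟩ := List.any_eq_true.1 (List.all_eq_true.1 step3_check _ hmem)
  simp only [Bool.and_eq_true, beq_iff_eq] at hσ
  refine ⟨((permOf σ hσ.1).trans π₂).trans π₁, fun i => δ (π₁ (π₂ (posMap σ i))),
    fun k => ε (π₁ (π₂ (posMap σ k))), fun i => hδ0 _, fun k => hε0 _, fun i k => ?_⟩
  have key : ∀ (R : List (List ℕ)) (M : Fin 10 → Fin 10 → Fin 3), R = List.ofFn (fun i => wl (M i)) →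
      ((List.ofFn fun i => List.ofFn fun k => (R.getD (posMap σ i) []).getD (posMap σ k) 0) = c0L) →
      M (posMap σ i) (posMap σ k) = c0 i k := by
    rintro R M rfl he
    rw [c0, ← he, getD_ofFn, getD_ofFn, getD_ofFn, getD_wl]
    exact Fin.ext (Nat.mod_eq_of_lt (M _ _).2).symm
  exact key _ (fun i k => δ (π₁ (π₂ i)) * ε (π₁ (π₂ k)) * C (π₁ (π₂ i)) (π₁ (π₂ k)))
    (by rw [← n2.row, ← e2, ← e2']; simp [List.ofFn_succ]) hσ.2

/-- The twenty words at distance nine from the zero word. -/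
def conWords : List (List ℕ) :=
  (List.ofFn fun i : Fin 10 => [wl (c0 i), wl (fun k => 2 * c0 i k)]).flatten

/-- Search for the compatible words, from the last letter to the first. -/
def ext : ℕ → List ℕ → List (List ℕ)
  | 0, z => if (z.count 0 == 4) && conWords.all (fun r => (agreeL r z == 1) || (agreeL r z == 4)) then [z] else []
  | k + 1, z => if Nat.ble (z.count 0) 4 && conWords.all (fun r => Nat.ble (agreeL (r.drop (k + 1)) z) 4) then
      [0, 1, 2].flatMap fun d => ext k (d :: z) else []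

theorem agreeL_le : ∀ (n : ℕ) (r z : List ℕ), agreeL (r.drop n) (z.drop n) ≤ agreeL r z
  | 0, r, z => le_rfl
  | n + 1, [], z => by simp [agreeL]
  | n + 1, a :: r, [] => by simp [agreeL]
  | n + 1, a :: r, b :: z => by
    rw [List.drop_succ_cons, List.drop_succ_cons, agreeL]
    exact (agreeL_le n r z).trans (Nat.le_add_left _ _)

theorem mem_ext (z : List ℕ) (h3 : ∀ d ∈ z, d ∈ [0, 1, 2]) (hc : z.count 0 = 4)
    (hr : ∀ r ∈ conWords, agreeL r z = 1 ∨ agreeL r z = 4) :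
    ∀ k, k ≤ z.length → z ∈ ext k (z.drop k) := by
  intro k
  induction k with
  | zero =>
    intro _
    rw [List.drop_zero, ext, if_pos]
    · simp
    · simp only [Bool.and_eq_true, beq_iff_eq, List.all_eq_true, Bool.or_eq_true]
      exact ⟨hc, hr⟩
  | succ k ih =>
    intro hk
    rw [ext, if_pos]
    · have hd : z.drop k = z[k] :: z.drop (k + 1) := List.drop_eq_getElem_cons (by omega)
      exact List.mem_flatMap.2 ⟨z[k], h3 _ (List.getElem_mem _), hd ▸ ih (by omega)⟩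
    · simp only [Bool.and_eq_true, List.all_eq_true, Nat.ble_eq]
      refine ⟨hc ▸ (List.drop_sublist _ _).count_le 0, fun r hr' => ?_⟩
      have := agreeL_le (k + 1) r z
      rcases hr r hr' with e | e <;> omega

/-- The words of the standard code. -/
def stdWords : List (List ℕ) := List.replicate 10 0 :: (conWords ++ ext 10 [])

theorem stdWords_length : stdWords.length = 81 := by decide +kernel

theorem stdWords_nodup : stdWords.Nodup := by decide +kernel

/-- Membership in the standard code. -/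
theorem mem_stdWords {f : Fin 10 → Fin 3}
    (hf : f = 0 ∨ (∃ i, f = c0 i ∨ f = fun k => 2 * c0 i k) ∨
      (agree f 0 = 4 ∧ ∀ i, (agree (c0 i) f = 1 ∨ agree (c0 i) f = 4) ∧
        (agree (fun k => 2 * c0 i k) f = 1 ∨ agree (fun k => 2 * c0 i k) f = 4))) :
    wl f ∈ stdWords := by
  rcases hf with rfl | ⟨i, hi⟩ | ⟨h0, hr⟩
  · rw [stdWords]; exact List.mem_cons.2 (Or.inl (by decide))
  · refine List.mem_cons_of_mem _ (List.mem_append_left _ (List.mem_flatten.2
      ⟨_, List.mem_ofFn.2 ⟨i, rfl⟩, ?_⟩))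
    rcases hi with rfl | rfl <;> simp
  · refine List.mem_cons_of_mem _ (List.mem_append_right _ ?_)
    have hlen : (wl f).length = 10 := by simp [wl]
    have hcount : ∀ (n : ℕ) (g : Fin n → Fin 3), (List.ofFn fun k => (g k).1).count 0
        = (univ.filter fun k => g k = 0).card := by
      intro n
      induction n with
      | zero => intro g; simp
      | succ n ih =>
        intro g
        rw [List.ofFn_succ, List.count_cons, ih (fun k => g k.succ), card_filter, card_filter,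
          Fin.sum_univ_succ fun k => if g k = 0 then 1 else 0, add_comm]
        simp [Fin.val_eq_zero_iff]
    have := mem_ext (wl f) (fun d hd => by
      obtain ⟨k, rfl⟩ := List.mem_ofFn.1 hd
      have := (f k).2
      simp only [List.mem_cons, List.not_mem_nil, or_false]; omega) ((hcount 10 f).trans h0) (fun r hr' => by
      obtain ⟨l, hl, hrl⟩ := List.mem_flatten.1 hr'
      obtain ⟨i, rfl⟩ := List.mem_ofFn.1 hl
      simp only [List.mem_cons, List.not_mem_nil, or_false] at hrl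
      rcases hrl with rfl | rfl
      · rw [← agree_eq]; exact (hr i).1
      · rw [← agree_eq]; exact (hr i).2) 10 (by rw [hlen])
    rwa [List.drop_of_length_le (by rw [hlen])] at this

end Cfsg.Agent.McLUniq
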