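import Cfsg.Agent.Lib.McLUniq.Quad
import Cfsg.Agent.Lib.McLUniq.Conf

/-!
Coordinates for the neighbourhood of a vertex: one point, ten lines through it, and a code of 81 words.
-/

set_option autoImplicit false
set_option maxRecDepth 10000

namespace Cfsg.Agent.McLUniq

open Finset

/-- Adjacency of the coordinatised neighbourhood. -/
def stdAdj (x y : ℕ) : Bool :=
  if x == 0 then Nat.blt 0 y && Nat.blt y 31
  else if y == 0 then Nat.blt x 31
  else if Nat.blt x 31 then
    if Nat.blt y 31 then (x != y) && ((x - 1) / 3 == (y - 1) / 3)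
    else (stdWords.getD (y - 31) []).getD ((x - 1) / 3) 0 == (x - 1) % 3
  else if Nat.blt y 31 then (stdWords.getD (x - 31) []).getD ((y - 1) / 3) 0 == (y - 1) % 3
  else agreeL (stdWords.getD (x - 31) []) (stdWords.getD (y - 31) []) == 1

variable {V : Type*} [Fintype V] [DecidableEq V] {Γ : SimpleGraph V} [DecidableRel Γ.Adj]

/-- A frame at `p`: the ten lines through it, met by `q` in `L k 0`. -/
structure Frame (Γ : SimpleGraph V) [DecidableRel Γ.Adj] (a p q : V) where
  L : Fin 10 → Fin 3 → V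
  mem : ∀ k d, L k d ∈ nb2 Γ a p
  zero : ∀ k, Γ.Adj q (L k 0)
  inj : ∀ k d l e, L k d = L l e → k = l ∧ d = e
  adj : ∀ k d l e, Γ.Adj (L k d) (L l e) ↔ k = l ∧ d ≠ e
  cover : ∀ w ∈ nb2 Γ a p, ∃ k d, L k d = w

variable (h : Γ.IsSRGWith 275 112 30 56) {a p q : V}
include h

theorem exists_frame (hp : Γ.Adj a p) (hq : Γ.Adj a q) (hne : p ≠ q) (npq : ¬ Γ.Adj p q) :
    Nonempty (Frame Γ a p q) := by
  set C := nb3 Γ a p q with hC
  have hc : C.card = 10 := card_nb3_path h hp hq hne npq
  let e : Fin 10 ≃ C := (Finset.equivFinOfCardEq hc).symm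
  have hm : ∀ k, Γ.Adj a (e k : V) ∧ Γ.Adj p (e k : V) ∧ Γ.Adj q (e k : V) := fun k => mem_nb3.1 (e k).2
  have hp2 : ∀ k, ∃ u v, u ≠ v ∧ nb3 Γ a p (e k : V) = {u, v} := fun k =>
    Finset.card_eq_two.1 (card_nb3_line h hp (hm k).1 (hm k).2.1)
  choose u v huv hset using hp2
  have hu : ∀ k, u k ∈ nb3 Γ a p (e k : V) := fun k => by rw [hset]; simp
  have hv : ∀ k, v k ∈ nb3 Γ a p (e k : V) := fun k => by rw [hset]; simp
  set L : Fin 10 → Fin 3 → V := fun k => ![(e k : V), u k, v k] with hL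
  have hLm : ∀ k d, L k d ∈ nb2 Γ a p := by
    intro k d
    have := mem_nb3.1 (hu k); have := mem_nb3.1 (hv k); have := hm k
    fin_cases d <;> simp [hL, mem_nb2, *]
  have hsame : ∀ k d d', d ≠ d' → Γ.Adj (L k d) (L k d') := by
    intro k d d' hd
    have h1 := (mem_nb3.1 (hu k)).2.2; have h2 := (mem_nb3.1 (hv k)).2.2
    have h3 := adj_of_common h hp (hm k).1 (hm k).2.1 (hu k) (hv k) (huv k)
    fin_cases d <;> fin_cases d' <;> simp [hL, h1, h2, h3, h1.symm, h2.symm, h3.symm] at hd ⊢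
  have hee : ∀ k l, k ≠ l → (e k : V) ≠ e l ∧ ¬ Γ.Adj (e k : V) (e l) := fun k l hkl =>
    ⟨fun he => hkl (e.injective (Subtype.ext he)), nb3_indep h hp hq hne npq (e k).2 (e l).2⟩
  have hinj : ∀ k d l d', L k d = L l d' → k = l ∧ d = d' := by
    intro k d l d' he
    by_cases hkl : k = l
    · subst hkl
      exact ⟨rfl, by_contra fun hd => (hsame k d d' hd).ne he⟩
    · exfalso
      obtain ⟨hne', nadj⟩ := hee k l hkl
      by_cases hd : d = 0
      · subst hd
        by_cases hd' : d' = 0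
        · subst hd'; exact hne' he
        · have h1 := hsame l d' 0 hd'
          rw [← he] at h1
          exact nadj h1
      · by_cases hd' : d' = 0
        · subst hd'
          have h1 := hsame k d 0 hd
          rw [he] at h1
          exact nadj h1.symm
        · have h1 := hsame k d 0 hd
          have h2 := hsame l d' 0 hd'
          rw [← he] at h2
          have hw := mem_nb2.1 (hLm k d)
          exact nadj (adj_of_common h hp hw.1 hw.2 (mem_nb3.2 ⟨(hm k).1, (hm k).2.1, h1⟩)
            (mem_nb3.2 ⟨(hm l).1, (hm l).2.1, h2⟩) hne')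
  refine ⟨⟨L, hLm, fun k => (hm k).2.2, hinj, fun k d l d' => ⟨fun hadj => ?_, ?_⟩, ?_⟩⟩
  · have hmem : L l d' ∈ nb3 Γ a p (L k d) :=
      mem_nb3.2 ⟨(mem_nb2.1 (hLm l d')).1, (mem_nb2.1 (hLm l d')).2, hadj⟩
    have hsub : (univ.filter fun x => x ≠ d).image (L k) = nb3 Γ a p (L k d) := by
      refine eq_of_subset_of_card_le (fun w hw => ?_) ?_
      · obtain ⟨x, hx, rfl⟩ := mem_image.1 hw
        exact mem_nb3.2 ⟨(mem_nb2.1 (hLm k x)).1, (mem_nb2.1 (hLm k x)).2,
          hsame k d x (Ne.symm (mem_filter.1 hx).2)⟩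
      · rw [card_nb3_line h hp (mem_nb2.1 (hLm k d)).1 (mem_nb2.1 (hLm k d)).2,
          card_image_of_injective _ fun x y e' => (hinj k x k y e').2]
        exact (show ∀ d : Fin 3, 2 ≤ (univ.filter fun x => x ≠ d).card by decide) d
    rw [← hsub] at hmem
    obtain ⟨x, hx, hx'⟩ := mem_image.1 hmem
    obtain ⟨rfl, rfl⟩ := hinj k x l d' hx'
    exact ⟨rfl, Ne.symm (mem_filter.1 hx).2⟩
  · rintro ⟨rfl, hd⟩
    exact hsame k d d' hd
  · intro w hw
    have himg : (univ : Finset (Fin 10 × Fin 3)).image (fun x => L x.1 x.2) = nb2 Γ a p := by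
      refine eq_of_subset_of_card_le (fun z hz => ?_) ?_
      · obtain ⟨x, -, rfl⟩ := mem_image.1 hz
        exact hLm _ _
      · rw [card_nb2 h hp, card_image_of_injective _ fun x y e' => Prod.ext (hinj _ _ _ _ e').1 (hinj _ _ _ _ e').2]
        rfl
    rw [← himg] at hw
    obtain ⟨x, -, rfl⟩ := mem_image.1 hw
    exact ⟨x.1, x.2, rfl⟩

omit h in
/-- The vertices of the neighbourhood off the lines through `p`. -/
def IsFar (Γ : SimpleGraph V) (a p r : V) : Prop := Γ.Adj a r ∧ r ≠ p ∧ ¬ Γ.Adj p r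

theorem Frame.exists_digit (F : Frame Γ a p q) (hp : Γ.Adj a p) {r : V} (hr : IsFar Γ a p r) (k : Fin 10) :
    ∃! d, Γ.Adj r (F.L k d) := by
  obtain ⟨hra, hrp, npr⟩ := hr
  have hinj : Function.Injective (F.L k) := fun x y e => (F.inj k x k y e).2
  have hpL : p ∉ univ.image (F.L k) := by
    simp only [mem_image, mem_univ, true_and, not_exists]
    exact fun d e => (mem_nb2.1 (F.mem k d)).2.ne e.symm
  set l := insert p (univ.image (F.L k)) with hl
  have hclique : Γ.IsClique (l : Set V) := by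
    rw [hl, coe_insert]
    refine SimpleGraph.IsClique.insert ?_ ?_
    · intro x hx y hy hxy
      simp only [coe_image, coe_univ, Set.image_univ, Set.mem_range] at hx hy
      obtain ⟨d, rfl⟩ := hx
      obtain ⟨d', rfl⟩ := hy
      exact (F.adj k d k d').2 ⟨rfl, fun e => hxy (by rw [e])⟩
    · intro x hx _
      simp only [coe_image, coe_univ, Set.image_univ, Set.mem_range] at hx
      obtain ⟨d, rfl⟩ := hx
      exact (mem_nb2.1 (F.mem k d)).2
  have hla : ∀ x ∈ l, Γ.Adj a x := by
    simp only [hl, mem_insert, mem_image, mem_univ, true_and]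
    rintro x (rfl | ⟨d, rfl⟩)
    exacts [hp, (mem_nb2.1 (F.mem k d)).1]
  have hrl : r ∉ l := by
    simp only [hl, mem_insert, mem_image, mem_univ, true_and]
    rintro (rfl | ⟨d, rfl⟩)
    exacts [hrp rfl, npr (mem_nb2.1 (F.mem k d)).2]
  have h1 := line_one h hclique (by rw [hl, card_insert_of_notMem hpL, card_image_of_injective _ hinj]; rfl)
    hla hra hrl
  rw [hl, filter_insert, if_neg (fun e => npr e.symm), filter_image, card_image_of_injective _ hinj,
    Finset.card_eq_one] at h1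
  obtain ⟨d, hd⟩ := h1
  refine ⟨d, ?_, fun d' hd' => ?_⟩
  · have := mem_singleton_self d
    rw [← hd] at this
    exact (mem_filter.1 this).2
  · exact mem_singleton.1 (hd ▸ mem_filter.2 ⟨mem_univ d', hd'⟩)

theorem card_far (hp : Γ.Adj a p) [DecidablePred (IsFar Γ a p)] :
    (univ.filter (IsFar Γ a p)).card = 81 := by
  have h1 := card_nbr h a
  rw [show univ.filter (fun w => Γ.Adj a w) = univ.filter (IsFar Γ a p) ∪ insert p (nb2 Γ a p) by
    ext w
    simp only [IsFar, mem_filter, mem_univ, true_and, mem_union, mem_insert, mem_nb2]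
    constructor
    · intro hw; tauto
    · rintro (h' | rfl | h')
      exacts [h'.1, hp, h'.1], card_union_of_disjoint (by
    rw [Finset.disjoint_left]
    intro w hw hw'
    simp only [IsFar, mem_filter, mem_univ, true_and] at hw
    simp only [mem_insert, mem_nb2] at hw'
    tauto), card_insert_of_notMem (fun e => (mem_nb2.1 e).2.ne rfl), card_nb2 h hp] at h1
  omega

/-- The neighbourhood of every vertex is the standard one. -/
theorem exists_quad_iso (a : V) : ∃ g : Fin 112 → V, Function.Injective g ∧ (∀ w, Γ.Adj a w ↔ ∃ x, g x = w)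
    ∧ ∀ x y, Γ.Adj (g x) (g y) ↔ stdAdj x y = true := by
  classical
  obtain ⟨p, hp⟩ : ∃ p, Γ.Adj a p := by
    obtain ⟨p, hp⟩ := card_pos.1 (show 0 < (univ.filter fun w => Γ.Adj a w).card by rw [card_nbr h a]; norm_num)
    exact ⟨p, (mem_filter.1 hp).2⟩
  obtain ⟨q, hqf⟩ : ∃ q, IsFar Γ a p q := by
    obtain ⟨q, hq⟩ := card_pos.1 (show 0 < (univ.filter (IsFar Γ a p)).card by rw [card_far h hp]; norm_num)
    exact ⟨q, (mem_filter.1 hq).2⟩
  obtain ⟨hq, hqp, npq⟩ := id hqf
  obtain ⟨F⟩ := exists_frame h hp hq hqp.symm npq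
  have hdig : ∀ r, ∃ w : Fin 10 → Fin 3, IsFar Γ a p r → ∀ k d, Γ.Adj r (F.L k d) ↔ w k = d := fun r => by
    by_cases hr : IsFar Γ a p r
    · choose w hw hw' using F.exists_digit h hp hr
      exact ⟨w, fun _ k d => ⟨fun e => (hw' k d e).symm, fun e => e ▸ hw k⟩⟩
    · exact ⟨0, fun e => absurd e hr⟩
  choose dig hdig using hdig
  -- agreements
  have hag : ∀ r s, IsFar Γ a p r → IsFar Γ a p s → r ≠ s →
      agree (dig r) (dig s) = if Γ.Adj r s then 1 else 4 := by
    intro r s hr hs hrs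
    have e : agree (dig r) (dig s) = ((nb3 Γ a r s).filter fun w => Γ.Adj p w).card := by
      refine card_bij (fun k _ => F.L k (dig r k)) (fun k hk => ?_) (fun k _ l _ e' => (F.inj _ _ _ _ e').1) ?_
      · obtain ⟨m1, m2⟩ := mem_nb2.1 (F.mem k (dig r k))
        exact mem_filter.2 ⟨mem_nb3.2 ⟨m1, (hdig r hr k _).2 rfl, (hdig s hs k _).2 (mem_filter.1 hk).2.symm⟩, m2⟩
      · intro w hw
        obtain ⟨hw1, hw2⟩ := mem_filter.1 hw
        obtain ⟨hwa, hwr, hws⟩ := mem_nb3.1 hw1
        obtain ⟨k, d, rfl⟩ := F.cover w (mem_nb2.2 ⟨hwa, hw2⟩)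
        exact ⟨k, mem_filter.2 ⟨mem_univ _, ((hdig r hr k d).1 hwr).trans ((hdig s hs k d).1 hws).symm⟩,
          by rw [(hdig r hr k d).1 hwr]⟩
    rw [e]
    split_ifs with hadj
    · obtain ⟨u, v, huv, hset⟩ := Finset.card_eq_two.1 (card_nb3_line h hr.1 hs.1 hadj)
      have hu := mem_nb3.1 (show u ∈ nb3 Γ a r s by rw [hset]; simp)
      have hv := mem_nb3.1 (show v ∈ nb3 Γ a r s by rw [hset]; simp)
      have hl : Γ.IsClique (({r, s, u, v} : Finset V) : Set V) := by
        rw [coe_insert, coe_insert, coe_insert, coe_singleton]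
        refine (((SimpleGraph.isClique_singleton v).insert ?_).insert ?_).insert ?_ <;>
          simp [hadj, hu.2.1, hu.2.2, hv.2.1, hv.2.2,
            adj_of_common h hr.1 hs.1 hadj (mem_nb3.2 hu) (mem_nb3.2 hv) huv]
      by_cases hpu : p = u
      · exact absurd (hpu ▸ hu.2.1.symm) hr.2.2
      by_cases hpv : p = v
      · exact absurd (hpv ▸ hv.2.1.symm) hr.2.2
      have := line_one h hl (by
        rw [card_insert_of_notMem, card_insert_of_notMem, card_insert_of_notMem, card_singleton] <;>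
          simp [hadj.ne, hu.2.1.ne, hu.2.2.ne, hv.2.1.ne, hv.2.2.ne, huv]) (by simp [hr.1, hs.1, hu.1, hv.1]) hp
        (by simp [hr.2.1.symm, hs.2.1.symm, hpu, hpv])
      rw [hset, ← this]
      simp [filter_insert, hr.2.2, hs.2.2]
    · exact triad h hr.1 hs.1 hp hrs hr.2.1 hs.2.1 hadj (fun e' => hr.2.2 e'.symm) (fun e' => hs.2.2 e'.symm)
  have hq0 : dig q = 0 := funext fun k => (hdig q hqf k 0).1 (F.zero k)
  -- the neighbours of `q`
  have hm : ∀ k, ∃ m, IsFar Γ a p m ∧ Γ.Adj q m ∧ dig m k = 0 ∧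
      ∃ m', IsFar Γ a p m' ∧ Γ.Adj q m' ∧ dig m' k = 0 ∧ Γ.Adj m m' ∧
        ∀ r, IsFar Γ a p r → Γ.Adj q r → dig r k = 0 → r = m ∨ r = m' := by
    intro k
    obtain ⟨hca, hcp⟩ := mem_nb2.1 (F.mem k 0)
    obtain ⟨m, m', hmm, hset⟩ := Finset.card_eq_two.1 (card_nb3_line h hq hca (F.zero k))
    have hm1 : m ∈ nb3 Γ a q (F.L k 0) := by rw [hset]; simp
    have hm2 : m' ∈ nb3 Γ a q (F.L k 0) := by rw [hset]; simp
    have hfar : ∀ r ∈ nb3 Γ a q (F.L k 0), IsFar Γ a p r := by
      intro r hr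
      obtain ⟨hra, hrq, hrc⟩ := mem_nb3.1 hr
      refine ⟨hra, ?_, fun hpr => ?_⟩
      · rintro rfl; exact npq hrq.symm
      · obtain ⟨l, d, rfl⟩ := F.cover r (mem_nb2.2 ⟨hra, hpr⟩)
        obtain ⟨rfl, hd⟩ := (F.adj k 0 l d).1 hrc
        exact hd ((hq0 ▸ (hdig q hqf k d).1 hrq : (0 : Fin 10 → Fin 3) k = d))
    have hz : ∀ r ∈ nb3 Γ a q (F.L k 0), dig r k = 0 := fun r hr =>
      (hdig r (hfar r hr) k 0).1 (mem_nb3.1 hr).2.2.symm
    refine ⟨m, hfar m hm1, (mem_nb3.1 hm1).2.1, hz m hm1, m', hfar m' hm2, (mem_nb3.1 hm2).2.1, hz m' hm2,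
      adj_of_common h hq hca (F.zero k) hm1 hm2 hmm, fun r hr hrq hrk => ?_⟩
    have : r ∈ nb3 Γ a q (F.L k 0) := mem_nb3.2 ⟨hr.1, hrq, ((hdig r hr k 0).2 hrk).symm⟩
    simpa [hset] using this
  choose m hmf hmq hmz m' hm'f hm'q hm'z hmm hmu using hm
  have hone : ∀ r, IsFar Γ a p r → Γ.Adj q r → ∀ k l, dig r k = 0 → dig r l = 0 → k = l := by
    intro r hr hrq k l hk hl
    have := hag q r hqf hr hrq.ne
    rw [if_pos hrq, agree, hq0] at this
    exact card_le_one.1 this.le k (by simp [hk]) l (by simp [hl])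
  have hC : IsConf fun i k => dig (m i) k := by
    refine ⟨fun i => hmz i, fun i k hik e => hik (hone _ (hmf i) (hmq i) i k (hmz i) e), fun i j hij => ?_⟩
    have hne' : m i ≠ m j := fun e => hij (hone _ (hmf i) (hmq i) i j (hmz i) (e ▸ hmz j))
    rw [hag _ _ (hmf i) (hmf j) hne', if_neg]
    intro hadj
    obtain ⟨hca, hcp⟩ := mem_nb2.1 (F.mem i 0)
    have hc : Γ.Adj (m i) (F.L i 0) := (hdig _ (hmf i) i 0).2 (hmz i)
    have hne2 : F.L i 0 ≠ m j := fun e => (hmf j).2.2 (e ▸ hcp)
    exact hij (hone _ (hmf j) (hmq j) i j ((hdig _ (hmf j) i 0).1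
      (adj_of_common h hq (hmf i).1 (hmq i) (mem_nb3.2 ⟨hca, F.zero i, hc⟩)
        (mem_nb3.2 ⟨(hmf j).1, hmq j, hadj⟩) hne2).symm) (hmz j))
  obtain ⟨π, δ, ε, hδ, hε, hstd⟩ := conf_unique hC
  have e2 : ∀ e x : Fin 3, e ≠ 0 → e * (e * x) = x := by decide
  set L' : Fin 10 → Fin 3 → V := fun k d => F.L (π k) (ε k * d) with hL'
  set word : V → Fin 10 → Fin 3 := fun r k => ε k * dig r (π k) with hword
  have hadjL : ∀ r, IsFar Γ a p r → ∀ k d, Γ.Adj r (L' k d) ↔ word r k = d := fun r hr k d => by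
    simp only [hL', hword, hdig r hr]
    constructor <;> intro e
    · rw [e]; exact e2 _ _ (hε k)
    · rw [← e, e2 _ _ (hε k)]
  have hagw : ∀ r s, agree (word r) (word s) = agree (dig r) (dig s) := fun r s => by
    rw [hword, agree_scale hε, agree_perm π]
  have hmw : ∀ i, word (m (π i)) = fun k => δ i * c0 i k := fun i => by
    funext k
    simp only [hword, ← hstd]
    have := hδ i
    revert this
    generalize δ i = x; generalize ε k = y; generalize dig (m (π i)) (π k) = z
    revert x y z; decide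
  have hm'w : ∀ i, word (m' (π i)) = fun k => 2 * (δ i * c0 i k) := fun i => by
    funext k
    rw [← congrFun (hmw i) k]
    by_cases hki : k = i
    · subst hki
      simp [hword, hmz, hm'z]
    · have hne' : π i ≠ π k := fun e => hki (π.injective e).symm
      have h1 := hC.off _ _ hne'
      have h2 : dig (m' (π i)) (π k) ≠ 0 := fun e =>
        hne' (hone _ (hm'f _) (hm'q _) _ _ (hm'z _) e)
      have h3 : dig (m (π i)) (π k) ≠ dig (m' (π i)) (π k) := fun e => hne' (by
        have := hag _ _ (hmf (π i)) (hm'f (π i)) (hmm _).ne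
        rw [if_pos (hmm _), agree] at this
        exact card_le_one.1 this.le (π i) (by simp [hmz, hm'z]) (π k) (by simp [e]))
      simp only [hword]
      revert h1 h2 h3
      generalize dig (m (π i)) (π k) = x; generalize dig (m' (π i)) (π k) = y; generalize ε k = z
      revert x y z; decide
  have hw0 : word q = 0 := by funext k; simp [hword, hq0]
  have hws : ∀ r, IsFar Γ a p r → wl (word r) ∈ stdWords := by
    intro r hr
    refine mem_stdWords ?_
    by_cases hrq : r = q
    · subst hrq; exact Or.inl hw0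
    right
    by_cases hadj : Γ.Adj q r
    · left
      have := hag q r hqf hr hadj.ne
      rw [if_pos hadj, agree, hq0] at this
      obtain ⟨k, hk⟩ := card_pos.1 (this ▸ Nat.one_pos)
      refine ⟨π.symm k, ?_⟩
      have hcase : ∀ x c : Fin 3, x ≠ 0 → x * c = c ∧ 2 * (x * c) = 2 * c ∨ x * c = 2 * c ∧ 2 * (x * c) = c := by
        decide
      have hx : δ (π.symm k) = 1 ∨ δ (π.symm k) = 2 := by
        have := hδ (π.symm k); revert this; generalize δ (π.symm k) = x; revert x; decide
      rcases hmu k r hr hadj (mem_filter.1 hk).2.symm with rfl | rfl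
      · rw [← π.apply_symm_apply k, hmw]
        rcases hx with e | e <;> rw [π.symm_apply_apply, e]
        · exact Or.inl (funext fun _ => one_mul _)
        · exact Or.inr rfl
      · rw [← π.apply_symm_apply k, hm'w]
        rcases hx with e | e <;> rw [π.symm_apply_apply, e]
        · exact Or.inr (funext fun _ => by rw [one_mul])
        · refine Or.inl (funext fun j => ?_)
          generalize c0 (π.symm k) j = c; revert c; decide
    · right
      refine ⟨?_, fun i => ?_⟩
      · rw [← hw0, hagw, agree_comm, hag q r hqf hr (Ne.symm hrq), if_neg hadj]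
      · have hb : ∀ s, IsFar Γ a p s → Γ.Adj q s → agree (word s) (word r) = 1 ∨ agree (word s) (word r) = 4 := by
          intro s hs hsq
          rw [hagw, hag s r hs hr (fun e => hadj (e ▸ hsq))]
          split_ifs <;> simp
        have h1 := hb _ (hmf (π i)) (hmq _)
        have h2 := hb _ (hm'f (π i)) (hm'q _)
        rw [hmw] at h1; rw [hm'w] at h2
        have := hδ i
        rcases (show δ i = 1 ∨ δ i = 2 by revert this; generalize δ i = x; revert x; decide) with e | e <;>
          rw [e] at h1 h2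
        · simp only [one_mul] at h1 h2; exact ⟨h1, h2⟩
        · refine ⟨?_, h1⟩
          rwa [show c0 i = fun k => 2 * (2 * c0 i k) from funext fun k => by
            generalize c0 i k = c; revert c; decide]
  have hwinj : ∀ r s, IsFar Γ a p r → IsFar Γ a p s → word r = word s → r = s := by
    intro r s hr hs e
    by_contra hrs
    have := hag r s hr hs hrs
    rw [← hagw, e, agree] at this
    simp at this
    split_ifs at this <;> omega
  have hRex : ∀ z ∈ stdWords, ∃ r, IsFar Γ a p r ∧ wl (word r) = z := by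
    have himg : (univ.filter (IsFar Γ a p)).image (fun r => wl (word r)) = stdWords.toFinset := by
      refine eq_of_subset_of_card_le (fun z hz => ?_) ?_
      · obtain ⟨r, hr, rfl⟩ := mem_image.1 hz
        exact List.mem_toFinset.2 (hws r (mem_filter.1 hr).2)
      · rw [card_image_of_injOn fun r hr s hs e => hwinj r s (mem_filter.1 hr).2 (mem_filter.1 hs).2
          (wl_injective e), card_far h hp]
        exact stdWords.toFinset_card_le.trans stdWords_length.le
    intro z hz
    rw [← List.mem_toFinset, ← himg] at hz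
    obtain ⟨r, hr, rfl⟩ := mem_image.1 hz
    exact ⟨r, (mem_filter.1 hr).2, rfl⟩
  choose R hRf hRw using hRex
  have hidx : ∀ {x : ℕ}, x < 112 → ¬ x < 31 → stdWords.getD (x - 31) [] ∈ stdWords := fun {x} h1 h2 => by
    rw [List.getD_eq_getElem?_getD, List.getElem?_eq_getElem (by rw [stdWords_length]; omega)]
    exact List.getElem_mem _
  set g : Fin 112 → V := fun x =>
    if x.1 = 0 then p else if hx : x.1 < 31 then L' ⟨(x.1 - 1) / 3, by omega⟩ ⟨(x.1 - 1) % 3, by omega⟩
    else R _ (hidx x.2 hx) with hg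
  have hLk : ∀ k d, L' k d ∈ nb2 Γ a p := fun k d => F.mem _ _
  have hLa : ∀ k d l e, Γ.Adj (L' k d) (L' l e) ↔ k = l ∧ d ≠ e := fun k d l e => by
    rw [hL', F.adj, π.injective.eq_iff]
    constructor <;> rintro ⟨rfl, hd⟩
    · exact ⟨rfl, fun e' => hd (by rw [e'])⟩
    · exact ⟨rfl, fun e' => hd (by rw [← e2 _ d (hε k), e', e2 _ e (hε k)])⟩
  have hadjg : ∀ x y, Γ.Adj (g x) (g y) ↔ stdAdj x y = true := by
    rintro ⟨x, hx⟩ ⟨y, hy⟩
    simp only [hg, stdAdj, beq_iff_eq, Nat.blt_eq]
    by_cases x0 : x = 0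
    · subst x0
      simp only [if_true, Bool.and_eq_true, Nat.blt_eq]
      split_ifs with y0 y31
      · simp [y0]
      · exact iff_of_true (mem_nb2.1 (hLk _ _)).2 ⟨Nat.pos_of_ne_zero y0, y31⟩
      · exact iff_of_false (hRf _ _).2.2 fun e => y31 e.2
    simp only [if_neg x0]
    by_cases y0 : y = 0
    · subst y0
      simp only [if_true, Nat.blt_eq]
      split_ifs with x31
      · exact iff_of_true (mem_nb2.1 (hLk _ _)).2.symm x31
      · exact iff_of_false (fun e => (hRf _ _).2.2 e.symm) x31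
    simp only [if_neg y0]
    split_ifs with x31 y31 y31
    · rw [hLa]
      simp only [Bool.and_eq_true, bne_iff_ne, beq_iff_eq, ne_eq, Fin.ext_iff]
      omega
    · rw [Γ.adj_comm, hadjL _ (hRf _ _)]
      conv_rhs => rw [beq_iff_eq, ← hRw _ (hidx hy y31)]
      rw [getD_wl (k := ⟨(x - 1) / 3, by omega⟩)]
      exact Fin.ext_iff
    · rw [hadjL _ (hRf _ _)]
      conv_rhs => rw [beq_iff_eq, ← hRw _ (hidx hx x31)]
      rw [getD_wl (k := ⟨(y - 1) / 3, by omega⟩)]
      exact Fin.ext_iff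
    · conv_rhs => rw [beq_iff_eq, ← hRw _ (hidx hx x31), ← hRw _ (hidx hy y31), ← agree_eq, hagw]
      by_cases e : R _ (hidx hx x31) = R _ (hidx hy y31)
      · rw [e]; simp [agree]
      · rw [hag _ _ (hRf _ _) (hRf _ _) e]
        split_ifs with hadj
        · exact iff_of_true hadj rfl
        · exact iff_of_false hadj (by norm_num)
  have hnd : stdWords.Nodup := stdWords_nodup
  have hga : ∀ x, Γ.Adj a (g x) := fun x => by
    simp only [hg]
    split_ifs
    exacts [hp, (mem_nb2.1 (hLk _ _)).1, (hRf _ _).1]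
  have hginj : Function.Injective g := by
    intro x y e
    simp only [hg] at e
    split_ifs at e with x0 y0 y31 x31 y0 y31 y0 y31
    · exact Fin.ext (x0.trans y0.symm)
    · exact absurd e (mem_nb2.1 (hLk _ _)).2.ne
    · exact absurd e.symm (hRf _ _).2.1
    · exact absurd e.symm (mem_nb2.1 (hLk _ _)).2.ne
    · obtain ⟨hk, hd⟩ := F.inj _ _ _ _ e
      have hk' := π.injective hk
      rw [← hk'] at hd
      have hd' : (⟨(x.1 - 1) % 3, by omega⟩ : Fin 3) = ⟨(y.1 - 1) % 3, by omega⟩ := by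
        have := congrArg (fun z => ε (⟨(x.1 - 1) / 3, by omega⟩ : Fin 10) * z) hd
        simpa [e2 _ _ (hε _)] using this
      rw [Fin.ext_iff] at hk' hd'
      simp only at hk' hd'
      exact Fin.ext (by omega)
    · exact absurd (e ▸ (mem_nb2.1 (hLk _ _)).2) (hRf _ _).2.2
    · exact absurd e (hRf _ _).2.1
    · exact absurd (e.symm ▸ (mem_nb2.1 (hLk _ _)).2) (hRf _ _).2.2
    · have := congrArg (fun r => wl (word r)) e
      simp only [hRw] at this
      rw [List.getD_eq_getElem?_getD, List.getD_eq_getElem?_getD,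
        List.getElem?_eq_getElem (by rw [stdWords_length]; omega),
        List.getElem?_eq_getElem (by rw [stdWords_length]; omega)] at this
      have := (hnd.getElem_inj_iff).1 (Option.some.inj (congrArg some this))
      exact Fin.ext (by omega)
  refine ⟨g, hginj, fun w => ⟨fun hw => ?_, ?_⟩, hadjg⟩
  · have himg : univ.image g = univ.filter (fun w => Γ.Adj a w) := by
      refine eq_of_subset_of_card_le (fun z hz => ?_) ?_
      · obtain ⟨x, -, rfl⟩ := mem_image.1 hz
        simp [hga x]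
      · rw [card_nbr h a, card_image_of_injective _ hginj]; simp
    have : w ∈ univ.image g := by rw [himg]; simp [hw]
    obtain ⟨x, -, rfl⟩ := mem_image.1 this
    exact ⟨x, rfl⟩
  · rintro ⟨x, rfl⟩; exact hga x

end Cfsg.Agent.McLUniq
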