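import Cfsg.Agent.Lib.McLUniq.ModelCheck

/-!
The hemisystems of the quadrangle: kernel checks.
-/

set_option autoImplicit false
set_option maxRecDepth 100000

namespace Cfsg.Agent.McLUniq

open Cfsg.Agent.PermCert (allBelow)

/-- A prefix of three points of a line has one or two chosen. -/
def ok3 (m M : ℕ) : Bool := (fun x => !(Nat.beq x 0 || Nat.beq x M)) (m &&& M)

/-- A line has exactly two chosen. -/
def ok4 (m M : ℕ) : Bool :=
  (fun x => !Nat.beq x 0 && (fun y => !Nat.beq y 0 && Nat.beq (y &&& (y - 1)) 0) (x &&& (x - 1))) (m &&& M)

/-- The constraints of a step. -/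
def okB (c : List ℕ × List ℕ) (m : ℕ) : Bool := c.1.all (ok3 m) && c.2.all (ok4 m)

/-- The search. -/
def enum : List (ℕ × List ℕ × List ℕ) → ℕ → List ℕ
  | [], m => [m]
  | (b, c) :: rest, m =>
    (if okB c (m ||| b) then enum rest (m ||| b) else []) ++ (if okB c m then enum rest m else [])

/-- A line of the quadrangle. -/
def lineOK : List ℕ → Bool
  | [a, b, c, d] => Nat.blt a 112 && Nat.blt b 112 && Nat.blt c 112 && Nat.blt d 112
      && adjWith stdWordsLit a b && adjWith stdWordsLit a c && adjWith stdWordsLit a d
      && adjWith stdWordsLit b c && adjWith stdWordsLit b d && adjWith stdWordsLit c d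
  | _ => false

/-- The steps only use earlier points, and exhaust the quadrangle. -/
def stepsOK : List (ℕ × List (List ℕ × ℕ)) → List ℕ → Bool
  | [], done => allBelow (fun x => done.contains x) 112
  | (v, cs) :: rest, done => Nat.blt v 112 && !done.contains v &&
      cs.all (fun e => lineOK e.1 && (e.2 == 3 || e.2 == 4) && (e.1.take e.2).all fun x => (v :: done).contains x) &&
      stepsOK rest (v :: done)

/-- The image of a mask. -/
def imgMask (g : List ℕ) (m : ℕ) : ℕ :=
  g.zipIdx.foldr (fun e acc => if m.testBit e.2 then 2 ^ e.1 ||| acc else acc) 0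

/-- The compiled form of a step. -/
def compileStep (s : ℕ × List (List ℕ × ℕ)) : ℕ × List ℕ × List ℕ :=
  (2 ^ s.1, (s.2.filter fun e => e.2 == 3).map (fun e => maskOf (e.1.take e.2)),
    (s.2.filter fun e => !(e.2 == 3)).map (fun e => maskOf (e.1.take e.2)))

theorem bits_check : searchBits = searchSteps.map compileStep := by decide +kernel

theorem steps_check : stepsOK searchSteps [] = true := by decide +kernel

theorem auts_check : (quadAuts.all fun g => g.length == 112 && g.all (fun x => Nat.blt x 112) && decide g.Nodup &&
    g.zipIdx.all fun e => imgMask g (famMask (rowOf e.2)) == famMask (rowOf e.1)) = true := by decide +kernel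

theorem hemis_zero : hemis.getD 0 0 = famMask (rowOf 113) := by decide +kernel

theorem orbit_check : ((hemiParent.zip hemis).zipIdx.all fun e => e.2 == 0 || (Nat.blt e.1.1.1 e.2 && Nat.blt e.1.1.2 3 &&
    imgMask (quadAuts.getD e.1.1.2 []) (hemis.getD e.1.1.1 0) == e.1.2)) = true := by decide +kernel

theorem hemis_length : hemis.length = 648 ∧ hemiParent.length = 648 ∧ quadAuts.length = 3 := by decide +kernel

theorem enumIdx_lt : enumIdx.all (fun i => Nat.blt i 648) = true := by decide +kernel

theorem prefix_length : (enum (searchBits.take 5) 0).length = 12 := by decide +kernel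

/-- The part of the search below the `i`-th prefix matches the list. -/
def partOK (i a n : ℕ) : Bool :=
  enum (searchBits.drop 5) ((enum (searchBits.take 5) 0).getD i 0) ==
    ((enumIdx.drop a).take n).map fun j => hemis.getD j 0

theorem part0_check : partOK 0 0 72 = true := by decide +kernel

theorem part1_check : partOK 1 72 36 = true := by decide +kernel

theorem part2_check : partOK 2 108 36 = true := by decide +kernel

theorem part3_check : partOK 3 144 72 = true := by decide +kernel

theorem part4_check : partOK 4 216 72 = true := by decide +kernel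

theorem part5_check : partOK 5 288 36 = true := by decide +kernel

theorem part6_check : partOK 6 324 36 = true := by decide +kernel

theorem part7_check : partOK 7 360 72 = true := by decide +kernel

theorem part8_check : partOK 8 432 72 = true := by decide +kernel

theorem part9_check : partOK 9 504 36 = true := by decide +kernel

theorem part10_check : partOK 10 540 36 = true := by decide +kernel

theorem part11_check : partOK 11 576 72 = true := by decide +kernel

theorem exists_part : ∀ i, i < 12 → ∃ a n, partOK i a n = true
  | 0, _ => ⟨_, _, part0_check⟩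
  | 1, _ => ⟨_, _, part1_check⟩
  | 2, _ => ⟨_, _, part2_check⟩
  | 3, _ => ⟨_, _, part3_check⟩
  | 4, _ => ⟨_, _, part4_check⟩
  | 5, _ => ⟨_, _, part5_check⟩
  | 6, _ => ⟨_, _, part6_check⟩
  | 7, _ => ⟨_, _, part7_check⟩
  | 8, _ => ⟨_, _, part8_check⟩
  | 9, _ => ⟨_, _, part9_check⟩
  | 10, _ => ⟨_, _, part10_check⟩
  | 11, _ => ⟨_, _, part11_check⟩
  | i + 12, h => absurd h (by omega)

theorem compat_check : ((fun fam : List ℕ => (hemis.all fun m => fam.contains m ||
    (fun n => !(n == 20 || n == 32)) (pc 14 (famMask (rowOf 113) &&& m))))
      ((stdRows.drop 113).map famMask)) = true := by decide +kernel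

end Cfsg.Agent.McLUniq
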