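import Cfsg.Agent.Lib.McLUniq.Model
import Cfsg.Agent.Lib.McLUniq.HemiCheck

/-!
The hemisystems of the quadrangle of order (3, 9) form one orbit of its automorphisms, and one of them
determines a family of 162.
-/

set_option autoImplicit false
set_option maxRecDepth 100000

namespace Cfsg.Agent.McLUniq

open Finset
open Cfsg.Agent.PermCert (allBelow allBelow_spec)

/-- The members of the family of the standard graph. -/
def fam (i : ℕ) : ℕ := famMask (rowOf (113 + i))

/-- An automorphism of the quadrangle. -/
def IsQuadAut (π : Equiv.Perm (Fin 112)) : Prop := ∀ x y, stdAdj (π x) (π y) = stdAdj x y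

/-- A set of points with exactly two on every line. -/
def IsHemi (H : Fin 112 → Bool) : Prop :=
  ∀ a b c d : Fin 112, stdAdj a b = true → stdAdj a c = true → stdAdj a d = true → stdAdj b c = true →
    stdAdj b d = true → stdAdj c d = true →
    (H a).toNat + (H b).toNat + (H c).toNat + (H d).toNat = 2

theorem beq_false_iff (a b : ℕ) : Nat.beq a b = false ↔ a ≠ b := by
  rw [← Bool.not_eq_true, Nat.beq_eq]

theorem ok3_of {p : ℕ → Bool} {x y z : ℕ} (m : ℕ) (hm : ∀ i ∈ [x, y, z], m.testBit i = p i)
    (h : 1 ≤ (p x).toNat + (p y).toNat + (p z).toNat ∧ (p x).toNat + (p y).toNat + (p z).toNat ≤ 2) :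
    ok3 m (maskOf [x, y, z]) = true := by
  simp only [ok3, Bool.not_eq_true', Bool.or_eq_false_iff, beq_false_iff, ne_eq]
  constructor <;> intro e
  · have : ∀ i ∈ [x, y, z], p i = false := fun i hi => by
      have := congrArg (fun n => n.testBit i) e
      simp only [Nat.testBit_and, Nat.zero_testBit, (testBit_maskOf [x, y, z] i).2 hi, Bool.and_true, hm i hi] at this
      exact this
    simp [this x (by simp), this y (by simp), this z (by simp)] at h
  · have : ∀ i ∈ [x, y, z], p i = true := fun i hi => by
      have := congrArg (fun n => n.testBit i) e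
      simp only [Nat.testBit_and, (testBit_maskOf [x, y, z] i).2 hi, Bool.and_true, hm i hi] at this
      exact this
    simp [this x (by simp), this y (by simp), this z (by simp)] at h

theorem two_bits {x y : ℕ} (hxy : x < y) :
    Nat.beq ((2 ^ x ||| 2 ^ y) &&& ((2 ^ x ||| 2 ^ y) - 1)) (2 ^ y) = true := by
  refine Nat.beq_eq.symm ▸ Nat.eq_of_testBit_eq fun i => ?_
  have hlt : 2 ^ x < 2 ^ y := Nat.pow_lt_pow_right (by norm_num) hxy
  have e : 2 ^ x ||| 2 ^ y = 2 ^ y + 2 ^ x := by
    rw [Nat.lor_comm]
    simpa [Nat.two_pow_add_eq_or_of_lt hlt] using (Nat.two_pow_add_eq_or_of_lt hlt 1).symm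
  have e2 : (2 ^ x ||| 2 ^ y) - 1 = 2 ^ y ||| (2 ^ x - 1) := by
    rw [e, Nat.add_sub_assoc Nat.one_le_two_pow]
    have := Nat.two_pow_add_eq_or_of_lt (show 2 ^ x - 1 < 2 ^ y by omega) 1
    simpa using this
  rw [e2, Nat.testBit_and, Nat.testBit_or, Nat.testBit_or, Nat.testBit_two_pow_sub_one, Nat.testBit_two_pow,
    Nat.testBit_two_pow]
  rcases eq_or_ne y i with rfl | h1
  · simp [show ¬ y < x by omega]
  · rcases eq_or_ne x i with rfl | h2 <;> simp [*]

theorem one_bit (y : ℕ) : 2 ^ y &&& (2 ^ y - 1) = 0 := by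
  refine Nat.eq_of_testBit_eq fun i => ?_
  rw [Nat.testBit_and, Nat.testBit_two_pow, Nat.testBit_two_pow_sub_one, Nat.zero_testBit]
  by_cases h : y = i <;> simp [h]

theorem ok4_of_bits {x y : ℕ} (hxy : x < y) (m M : ℕ) (e : m &&& M = 2 ^ x ||| 2 ^ y) : ok4 m M = true := by
  have h := Nat.eq_of_beq_eq_true (two_bits hxy)
  simp only [ok4, e, h, one_bit, Nat.beq_refl, Bool.and_true, Bool.and_eq_true, Bool.not_eq_true',
    beq_false_iff, ne_eq]
  refine ⟨fun e0 => ?_, (Nat.two_pow_pos y).ne'⟩
  have := congrArg (fun n => n.testBit y) e0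
  simp [Nat.testBit_or] at this

theorem ok4_of {p : ℕ → Bool} {a b c d : ℕ} (m : ℕ) (hm : ∀ i ∈ [a, b, c, d], m.testBit i = p i)
    (hn : [a, b, c, d].Nodup) (h : (p a).toNat + (p b).toNat + (p c).toNat + (p d).toNat = 2) :
    ok4 m (maskOf [a, b, c, d]) = true := by
  have key : ∀ x y, x ≠ y → (∀ i, (i ∈ [a, b, c, d] ∧ p i = true) ↔ (i = x ∨ i = y)) →
      ok4 m (maskOf [a, b, c, d]) = true := by
    intro x y hxy hi
    have e : m &&& maskOf [a, b, c, d] = 2 ^ x ||| 2 ^ y := by
      refine Nat.eq_of_testBit_eq fun i => Bool.eq_iff_iff.2 ?_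
      rw [Nat.testBit_and, Nat.testBit_or, Bool.and_eq_true, Bool.or_eq_true, testBit_maskOf,
        Nat.testBit_two_pow, Nat.testBit_two_pow, decide_eq_true_eq, decide_eq_true_eq, eq_comm (a := x),
        eq_comm (a := y), ← hi i]
      exact ⟨fun e => ⟨e.2, (hm i e.2) ▸ e.1⟩, fun e => ⟨(hm i e.1).symm ▸ e.2, e.1⟩⟩
    rcases lt_or_gt_of_ne hxy with hl | hl
    · exact ok4_of_bits hl _ _ e
    · exact ok4_of_bits hl _ _ (e.trans (Nat.lor_comm _ _))
  simp only [List.nodup_cons, List.mem_cons, List.not_mem_nil, or_false, not_or] at hn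
  obtain ⟨⟨hab, hac, had⟩, ⟨hbc, hbd⟩, hcd, -⟩ := hn
  cases ha : p a <;> cases hb : p b <;> cases hc : p c <;> cases hd : p d <;>
    simp [ha, hb, hc, hd] at h
  case false.false.true.true =>
    exact key c d hcd fun i => by simp only [List.mem_cons, List.not_mem_nil, or_false]; aesop
  case false.true.false.true =>
    exact key b d hbd fun i => by simp only [List.mem_cons, List.not_mem_nil, or_false]; aesop
  case false.true.true.false =>
    exact key b c hbc fun i => by simp only [List.mem_cons, List.not_mem_nil, or_false]; aesop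
  case true.false.false.true =>
    exact key a d had fun i => by simp only [List.mem_cons, List.not_mem_nil, or_false]; aesop
  case true.false.true.false =>
    exact key a c hac fun i => by simp only [List.mem_cons, List.not_mem_nil, or_false]; aesop
  case true.true.false.false =>
    exact key a b hab fun i => by simp only [List.mem_cons, List.not_mem_nil, or_false]; aesop

theorem stdAdj_ne {x : Fin 112} : stdAdj x x = false := by
  rw [← testBit_quad x.2 x.2, ← Bool.not_eq_true]
  exact fun e => stdGraph.loopless.irrefl ⟨x, by omega⟩ ((adj_iff _ _).2 e)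

/-- The mask of a set of points. -/
def setMask (H : Fin 112 → Bool) : ℕ := Nat.ofBits H

theorem mem_enum {H : Fin 112 → Bool} (hH : IsHemi H) : ∀ (steps : List (ℕ × List (List ℕ × ℕ))) (done : List ℕ)
    (m : ℕ), stepsOK steps done = true →
    (∀ i, m.testBit i = (decide (i ∈ done) && (setMask H).testBit i)) →
    setMask H ∈ enum (steps.map compileStep) m
  | [], done, m, hs, hm => by
    simp only [List.map_nil, enum, List.mem_singleton]
    refine Nat.eq_of_testBit_eq fun i => ?_
    rw [hm i]
    by_cases hi : i < 112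
    · have : i ∈ done := by simpa using allBelow_spec _ _ hs i hi
      simp [this]
    · rw [setMask, Nat.testBit_ofBits_ge _ _ (by omega)]; simp
  | (v, cs) :: rest, done, m, hs, hm => by
    simp only [stepsOK, Bool.and_eq_true, Nat.blt_eq, Bool.not_eq_true', List.all_eq_true] at hs
    obtain ⟨⟨⟨hv, hvd⟩, hcs⟩, hrest⟩ := hs
    set m' := if (setMask H).testBit v then m ||| 2 ^ v else m with hm'
    have hm2 : ∀ i, m'.testBit i = (decide (i ∈ v :: done) && (setMask H).testBit i) := by
      intro i
      have hvm : m.testBit v = false := by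
        rw [hm v, decide_eq_false (fun e => ?_), Bool.false_and]
        simp [e] at hvd
      rw [hm']
      by_cases hiv : i = v
      · subst hiv
        by_cases hb : (setMask H).testBit i = true
        · simp [hb, Nat.testBit_or]
        · simp [Bool.not_eq_true _ ▸ hb, hvm]
      · split_ifs <;> simp [Nat.testBit_or, Nat.testBit_two_pow, hm i, hiv, Ne.symm hiv]
    have hok : okB ((compileStep (v, cs)).2) m' = true := by
      have item : ∀ e ∈ cs, (if e.2 = 3 then ok3 else ok4) m' (maskOf (e.1.take e.2)) = true := by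
        rintro ⟨l, k⟩ he
        have h := hcs _ he
        simp only [Bool.or_eq_true, beq_iff_eq, List.contains_iff_mem] at h
        obtain ⟨⟨hl, hk⟩, hd⟩ := h
        match l, hl with
        | [a, b, c, d], hl =>
          simp only [lineOK, Bool.and_eq_true, Nat.blt_eq, ← stdAdj_eq] at hl
          obtain ⟨⟨⟨⟨⟨⟨⟨⟨⟨ha, hb⟩, hc⟩, hd4⟩, hab⟩, hac⟩, had⟩, hbc⟩, hbd⟩, hcd⟩ := hl
          have hsum := hH ⟨a, ha⟩ ⟨b, hb⟩ ⟨c, hc⟩ ⟨d, hd4⟩ hab hac had hbc hbd hcd
          have hp : ∀ {i : ℕ} (hi : i < 112), (setMask H).testBit i = H ⟨i, hi⟩ := fun {i} hi => by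
            rw [setMask, Nat.testBit_ofBits_lt _ _ hi]
          rcases hk with rfl | rfl
          · simp only [if_true, List.take_succ_cons, List.take_zero]
            refine ok3_of m' (fun i hi => by rw [hm2, decide_eq_true (hd i hi), Bool.true_and]) ?_
            rw [hp ha, hp hb, hp hc]
            have := Bool.toNat_le (H ⟨d, hd4⟩)
            omega
          · rw [if_neg (by norm_num)]
            simp only [List.take_succ_cons, List.take_zero]
            refine ok4_of m' (fun i hi => by rw [hm2, decide_eq_true (hd i hi), Bool.true_and]) ?_ ?_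
            · have hne : ∀ (x y : ℕ) (hx : x < 112), stdAdj x y = true → x ≠ y := fun x y hx e he => by
                subst he; rw [stdAdj_ne (x := ⟨x, hx⟩)] at e; exact Bool.false_ne_true e
              simp [hne a b ha hab, hne a c ha hac, hne a d ha had, hne b c hb hbc, hne b d hb hbd, hne c d hc hcd]
            · rw [hp ha, hp hb, hp hc, hp hd4]; exact hsum
      simp only [okB, compileStep, List.all_map, Bool.and_eq_true, List.all_eq_true, List.mem_filter]
      constructor
      · rintro e ⟨he, he3⟩
        simpa [if_pos (beq_iff_eq.1 he3)] using item e he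
      · rintro e ⟨he, he3⟩
        simpa [if_neg (show ¬ e.2 = 3 by simpa using he3)] using item e he
    have ih := mem_enum hH rest (v :: done) m' hrest hm2
    rw [List.map_cons, show compileStep (v, cs) = (2 ^ v, (compileStep (v, cs)).2) from rfl, enum, List.mem_append]
    rw [hm'] at hok ih
    by_cases hb : (setMask H).testBit v = true
    · rw [if_pos hb] at hok ih
      exact Or.inl (by rwa [if_pos hok])
    · rw [if_neg hb] at hok ih
      exact Or.inr (by rwa [if_pos hok])

theorem enum_append : ∀ (A B : List (ℕ × List ℕ × List ℕ)) (m : ℕ),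
    enum (A ++ B) m = (enum A m).flatMap (enum B)
  | [], B, m => by simp [enum]
  | (b, c) :: A, B, m => by
    simp only [List.cons_append, enum]
    rw [List.flatMap_append]
    split_ifs <;> simp [enum_append A B]

theorem setMask_mem {H : Fin 112 → Bool} (hH : IsHemi H) : ∃ i < 648, setMask H = hemis.getD i 0 := by
  have h := mem_enum hH searchSteps [] 0 steps_check (fun i => by simp)
  rw [← bits_check, ← List.take_append_drop 5 searchBits, enum_append, List.mem_flatMap] at h
  obtain ⟨m, hm, hmem⟩ := h
  obtain ⟨i, hi, rfl⟩ := List.mem_iff_getElem.1 hm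
  obtain ⟨a, n, hp⟩ := exists_part i (prefix_length ▸ hi)
  rw [partOK, beq_iff_eq, List.getD_eq_getElem?_getD, List.getElem?_eq_getElem hi, Option.getD_some] at hp
  rw [hp] at hmem
  obtain ⟨j, hj, hje⟩ := List.mem_map.1 hmem
  exact ⟨j, Nat.le_of_ble_eq_true (List.all_eq_true.1 enumIdx_lt j (List.mem_of_mem_drop (List.mem_of_mem_take hj))),
    hje.symm⟩

theorem exists_quad_perm {g : List ℕ} (hg : g ∈ quadAuts) :
    ∃ π : Equiv.Perm (Fin 112), IsQuadAut π ∧
      ∀ m (y : Fin 112), (imgMask g m).testBit (π y) = m.testBit y := by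
  have h := List.all_eq_true.1 auts_check g hg
  simp only [Bool.and_eq_true, beq_iff_eq, decide_eq_true_eq, List.all_eq_true, Nat.blt_eq] at h
  obtain ⟨⟨⟨hlen, hlt⟩, hnd⟩, himg⟩ := h
  have hlb : ∀ x : Fin 112, x.1 < g.length := fun x => by omega
  let f : Fin 112 → Fin 112 := fun x => ⟨g[x.1]'(hlb x), hlt _ (List.getElem_mem _)⟩
  have hinj : Function.Injective f := fun x y e => Fin.ext (hnd.getElem_inj_iff.1 (Fin.mk.inj e))
  let π := Equiv.ofBijective f (Finite.injective_iff_bijective.1 hinj)
  have hπ : ∀ x : Fin 112, (π x).1 = g[x.1]'(hlb x) := fun _ => rfl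
  have himgbit : ∀ m (z : ℕ), (imgMask g m).testBit z = true ↔
      ∃ e ∈ g.zipIdx, m.testBit e.2 = true ∧ e.1 = z := by
    intro m z
    rw [imgMask]
    generalize g.zipIdx = L
    induction L with
    | nil => simp
    | cons e L ih =>
      simp only [List.foldr_cons, List.exists_mem_cons_iff]
      split_ifs with hb
      · rw [Nat.testBit_or, Bool.or_eq_true, ih, Nat.testBit_two_pow, decide_eq_true_eq]; simp [hb]
      · rw [ih]; simp [hb]
  have hbit : ∀ m (y : Fin 112), (imgMask g m).testBit (π y) = m.testBit y := by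
    intro m y
    refine Bool.eq_iff_iff.2 ((himgbit m _).trans ⟨?_, fun hy => ?_⟩)
    · rintro ⟨⟨z, i⟩, he, hb, rfl⟩
      have hi := List.mem_zipIdx_iff_getElem?.1 he
      rw [List.getElem?_eq_some_iff] at hi
      obtain ⟨hi, hi'⟩ := hi
      rw [hπ] at hi'
      rwa [← (hnd.getElem_inj_iff).1 hi']
    · exact ⟨(_, y.1), List.mem_zipIdx_iff_getElem?.2 (List.getElem?_eq_getElem (hlb y)), hy, rfl⟩
  refine ⟨π, fun x y => ?_, hbit⟩
  have := himg (g[x.1]'(hlb x), x.1)
    (List.mem_zipIdx_iff_getElem?.2 (List.getElem?_eq_getElem (hlb x)))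
  rw [← testBit_quad (π x).2 (π y).2, ← testBit_quad x.2 y.2, ← testBit_famMask _ _ (π y).2,
    ← testBit_famMask _ _ y.2, hπ x, ← this, hbit]

/-- Every hemisystem is an image of the standard one. -/
theorem exists_aut_hemi {H : Fin 112 → Bool} (hH : IsHemi H) :
    ∃ π : Equiv.Perm (Fin 112), IsQuadAut π ∧ ∀ x : Fin 112, H (π x) = (fam 0).testBit x := by
  have orbit : ∀ i, i < 648 → ∃ π : Equiv.Perm (Fin 112), IsQuadAut π ∧
      ∀ x : Fin 112, (hemis.getD i 0).testBit (π x) = (fam 0).testBit x := by
    intro i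
    induction i using Nat.strong_induction_on with
    | _ i ih =>
      intro hi
      rcases Nat.eq_zero_or_pos i with rfl | hpos
      · exact ⟨1, fun _ _ => rfl, fun x => by rw [hemis_zero]; rfl⟩
      obtain ⟨l1, l2, l3⟩ := hemis_length
      have h := List.all_eq_true.1 orbit_check
        (((hemiParent[i]'(by omega)), (hemis[i]'(by omega))), i)
        (List.mem_zipIdx_iff_getElem?.2 (by
          rw [List.getElem?_eq_getElem (by simp [l1, l2]; omega), List.getElem_zip]))
      simp only [Bool.or_eq_true, Bool.and_eq_true, beq_iff_eq, Nat.blt_eq] at h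
      rcases h with h | ⟨⟨hp, hg⟩, he⟩
      · omega
      obtain ⟨π, hπ, hπb⟩ := ih _ hp (by omega)
      obtain ⟨σ, hσ, hσb⟩ := exists_quad_perm (g := quadAuts.getD (hemiParent[i]'(by omega)).2 []) (by
        rw [List.getD_eq_getElem?_getD, List.getElem?_eq_getElem (by omega), Option.getD_some]
        exact List.getElem_mem _)
      refine ⟨π.trans σ, fun x y => (hσ _ _).trans (hπ x y), fun x => ?_⟩
      rw [Equiv.trans_apply, show hemis.getD i 0 = hemis[i]'(by omega) by
        rw [List.getD_eq_getElem?_getD, List.getElem?_eq_getElem (by omega), Option.getD_some], ← he, hσb, hπb]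
  obtain ⟨i, hi, he⟩ := setMask_mem hH
  obtain ⟨π, hπ, hb⟩ := orbit i hi
  refine ⟨π, hπ, fun x => ?_⟩
  rw [← hb, ← he, setMask, Nat.testBit_ofBits_lt _ _ (π x).2]

/-- The hemisystems compatible with the standard one form its family. -/
theorem mem_fam {H : Fin 112 → Bool} (hH : IsHemi H)
    (hc : (univ.filter fun x : Fin 112 => (fam 0).testBit x = true ∧ H x = true).card = 20 ∨
      (univ.filter fun x : Fin 112 => (fam 0).testBit x = true ∧ H x = true).card = 32) :
    ∃ i < 162, ∀ x : Fin 112, (fam i).testBit x = H x := by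
  obtain ⟨j, hj, he⟩ := setMask_mem hH
  have h := List.all_eq_true.1 compat_check (hemis.getD j 0) (by
    rw [List.getD_eq_getElem?_getD, List.getElem?_eq_getElem (by rw [hemis_length.1]; exact hj), Option.getD_some]
    exact List.getElem_mem _)
  rw [← he] at h
  simp only [Bool.or_eq_true, List.contains_iff_mem] at h
  rcases h with h | h
  · obtain ⟨r, hr, hre⟩ := List.mem_map.1 h
    obtain ⟨i, hi, rfl⟩ := List.mem_iff_getElem.1 hr
    rw [List.length_drop, stdRows_length] at hi
    refine ⟨i, hi, fun x => ?_⟩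
    rw [fam, rowOf, List.getD_eq_getElem?_getD, List.getElem?_eq_getElem (by rw [stdRows_length]; omega),
      Option.getD_some]
    rw [List.getElem_drop] at hre
    rw [hre, setMask, Nat.testBit_ofBits_lt _ _ x.2]
  · exfalso
    have hb : ∀ x : Fin 112, (famMask (rowOf 113) &&& setMask H).testBit x = ((fam 0).testBit x && H x) := fun x => by
      rw [Nat.testBit_and, setMask, Nat.testBit_ofBits_lt _ _ x.2]; rfl
    rw [show fam 0 = famMask (rowOf 113) from rfl] at hc
    rw [pc_card (univ.filter fun x : Fin 112 => (famMask (rowOf 113)).testBit x = true ∧ H x = true)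
      (fun x => by simp only [mem_filter, mem_univ, true_and, hb, Bool.and_eq_true]; rfl)] at h
    rcases hc with e | e <;> simp [e] at h

end Cfsg.Agent.McLUniq
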