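import Cfsg.Agent.Lib.McLUniq.Hemi

/-!
Uniqueness of the strongly regular graph (275, 112, 30, 56), and a bound for its automorphisms.
-/

set_option autoImplicit false
set_option maxRecDepth 100000

namespace Cfsg.Agent.McLUniq

open Finset

variable {V : Type*} [Fintype V] [DecidableEq V] {Γ : SimpleGraph V} [DecidableRel Γ.Adj]
variable (h : Γ.IsSRGWith 275 112 30 56)
include h

theorem isHemi_of_far {a : V} {g : Fin 112 → V} (hinj : Function.Injective g) (hga : ∀ x, Γ.Adj a (g x))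
    (hadj : ∀ x y, Γ.Adj (g x) (g y) ↔ stdAdj x y = true) {y : V} (hy : y ≠ a) (hay : ¬ Γ.Adj a y) :
    IsHemi fun x => decide (Γ.Adj y (g x)) := by
  intro p q r s hpq hpr hps hqr hqs hrs
  have hl : Γ.IsClique (({g p, g q, g r, g s} : Finset V) : Set V) := by
    rw [coe_insert, coe_insert, coe_insert, coe_singleton]
    refine (((SimpleGraph.isClique_singleton _).insert ?_).insert ?_).insert ?_ <;>
      simp [(hadj _ _).2 hpq, (hadj _ _).2 hpr, (hadj _ _).2 hps, (hadj _ _).2 hqr, (hadj _ _).2 hqs,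
        (hadj _ _).2 hrs]
  have hne : ∀ {u v : Fin 112}, stdAdj u v = true → g u ≠ g v := fun e => ((hadj _ _).2 e).ne
  have n1 : g p ∉ ({g q, g r, g s} : Finset V) := by simp [hne hpq, hne hpr, hne hps]
  have n2 : g q ∉ ({g r, g s} : Finset V) := by simp [hne hqr, hne hqs]
  have n3 : g r ∉ ({g s} : Finset V) := by simp [hne hrs]
  have := line_two h hl (by rw [card_insert_of_notMem n1, card_insert_of_notMem n2, card_insert_of_notMem n3,
    card_singleton]) (by simp [hga]) hy hay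
  rw [card_filter, sum_insert n1, sum_insert n2, sum_insert n3, sum_singleton] at this
  have e : ∀ v, (decide (Γ.Adj y v)).toNat = if Γ.Adj y v then 1 else 0 := fun v => by split_ifs <;> simp [*]
  simp only [e]
  omega

theorem card_far_pts (a : V) : (univ.filter fun y => y ≠ a ∧ ¬ Γ.Adj a y).card = 162 := by
  have h1 := card_filter_add_card_filter_not (s := (univ : Finset V)) (fun y => Γ.Adj a y)
  rw [card_nbr h a, card_univ, h.card] at h1
  have e : univ.filter (fun y => ¬ Γ.Adj a y) = insert a (univ.filter fun y => y ≠ a ∧ ¬ Γ.Adj a y) := by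
    ext y
    simp only [mem_filter, mem_univ, true_and, mem_insert]
    constructor
    · intro hy; by_cases hya : y = a <;> simp [*]
    · rintro (rfl | hy)
      exacts [Γ.loopless.irrefl _, hy.2]
  rw [e, card_insert_of_notMem (by simp)] at h1
  omega

/-- A strongly regular graph with parameters (275, 112, 30, 56) is the standard one. -/
theorem exists_iso : ∃ φ : Fin 275 ≃ V, ∀ x y, Γ.Adj (φ x) (φ y) ↔ stdGraph.Adj x y := by
  classical
  obtain ⟨a⟩ : Nonempty V := Fintype.card_pos_iff.1 (by rw [h.card]; norm_num)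
  obtain ⟨g₀, hg₀inj, hg₀range, hg₀adj⟩ := exists_quad_iso h a
  have hG2 := card_far_pts h a
  obtain ⟨y₀, hy₀⟩ := card_pos.1 (show 0 < (univ.filter fun y => y ≠ a ∧ ¬ Γ.Adj a y).card by
    rw [hG2]; norm_num)
  simp only [mem_filter, mem_univ, true_and] at hy₀
  obtain ⟨π, hπ, hπ0⟩ := exists_aut_hemi (isHemi_of_far h hg₀inj (fun x => (hg₀range _).2 ⟨x, rfl⟩) hg₀adj hy₀.1 hy₀.2)
  set g : Fin 112 → V := fun x => g₀ (π x) with hg
  have hinj : Function.Injective g := hg₀inj.comp π.injective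
  have hga : ∀ x, Γ.Adj a (g x) := fun x => (hg₀range _).2 ⟨_, rfl⟩
  have hadj : ∀ x y, Γ.Adj (g x) (g y) ↔ stdAdj x y = true := fun x y => by rw [hg₀adj, hπ]
  have hrange : ∀ w, Γ.Adj a w → ∃ x, g x = w := fun w hw => by
    obtain ⟨x, rfl⟩ := (hg₀range w).1 hw
    exact ⟨π.symm x, by simp [hg]⟩
  have h0 : ∀ x : Fin 112, decide (Γ.Adj y₀ (g x)) = (fam 0).testBit x := hπ0
  -- counting common neighbours in coordinates
  have hcount : ∀ y z, (univ.filter fun x : Fin 112 => Γ.Adj y (g x) ∧ Γ.Adj z (g x)).card = (nb3 Γ a y z).card := by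
    intro y z
    refine card_bij (fun x _ => g x) (fun x hx => mem_nb3.2 ⟨hga x, (mem_filter.1 hx).2⟩)
      (fun x _ x' _ e => hinj e) fun w hw => ?_
    obtain ⟨hw1, hw2⟩ := mem_nb3.1 hw
    obtain ⟨x, rfl⟩ := hrange w hw1
    exact ⟨x, by simp [hw2], rfl⟩
  have hpair : ∀ y z, (y ≠ a ∧ ¬ Γ.Adj a y) → (z ≠ a ∧ ¬ Γ.Adj a z) → y ≠ z →
      (nb3 Γ a y z).card = if Γ.Adj y z then 20 else 32 := by
    intro y z hy hz hyz
    split_ifs with hyz'
    · exact far_adj h hy.2 hz.2 hy.1.symm hz.1.symm hyz'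
    · exact far_nonadj h hy.2 hz.2 hy.1.symm hz.1.symm hyz hyz'
  have hidx : ∀ y, ∃ i : Fin 162, (y ≠ a ∧ ¬ Γ.Adj a y) → ∀ x : Fin 112, (fam i).testBit x = decide (Γ.Adj y (g x)) := by
    intro y
    by_cases hy : y ≠ a ∧ ¬ Γ.Adj a y
    · by_cases hyy : y = y₀
      · exact ⟨0, fun _ x => by rw [hyy, h0]; rfl⟩
      obtain ⟨i, hi, hix⟩ := mem_fam (isHemi_of_far h hinj hga hadj hy.1 hy.2) (by
        have e : (univ.filter fun x : Fin 112 => (fam 0).testBit x = true ∧ decide (Γ.Adj y (g x)) = true).card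
            = (nb3 Γ a y₀ y).card := by
          rw [← hcount]; congr 1; exact filter_congr fun x _ => by rw [← h0]; simp
        rw [e, hpair y₀ y hy₀ hy (Ne.symm hyy)]
        split_ifs <;> simp)
      exact ⟨⟨i, hi⟩, fun _ x => hix x⟩
    · exact ⟨0, fun e => absurd e hy⟩
  choose idx hidx using hidx
  have hidxinj : ∀ y z, (y ≠ a ∧ ¬ Γ.Adj a y) → (z ≠ a ∧ ¬ Γ.Adj a z) → idx y = idx z → y = z := by
    intro y z hy hz e
    by_contra hne
    have hsame : ∀ x, Γ.Adj y (g x) ↔ Γ.Adj z (g x) := fun x => by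
      have a1 := hidx y hy x
      rw [e, hidx z hz x] at a1
      exact ⟨fun w => by simpa [w] using a1, fun w => by simpa [w] using a1⟩
    have h56 : (nb3 Γ a y z).card = 56 := by
      rw [← hcount, filter_congr fun x _ => show Γ.Adj y (g x) ∧ Γ.Adj z (g x) ↔ Γ.Adj y (g x) ∧ Γ.Adj y (g x) by
        rw [hsame], hcount]
      have := cn_nonadj h hy.1.symm hy.2
      rw [cn] at this
      simpa [nb3] using this
    rw [hpair y z hy hz hne] at h56
    split_ifs at h56 <;> omega
  have hsurj : ∀ i : Fin 162, ∃ y, (y ≠ a ∧ ¬ Γ.Adj a y) ∧ idx y = i := by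
    intro i
    have himg : (univ.filter fun y => y ≠ a ∧ ¬ Γ.Adj a y).image idx = univ := by
      refine eq_univ_of_card _ ?_
      rw [card_image_of_injOn fun y hy z hz e => hidxinj y z (mem_filter.1 hy).2 (mem_filter.1 hz).2 e, hG2]
      simp
    obtain ⟨y, hy, e⟩ := mem_image.1 (himg ▸ mem_univ i)
    exact ⟨y, (mem_filter.1 hy).2, e⟩
  choose Y hY hYi using hsurj
  set f : Fin 275 → V := fun x => if hx : x.1 < 112 then g ⟨x.1, hx⟩ else if x.1 = 112 then a else
    Y ⟨x.1 - 113, by omega⟩ with hf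
  have hfinj : Function.Injective f := by
    intro x y e
    simp only [hf] at e
    split_ifs at e with x1 y1 y2 x2 y1 y2 y1 y2
    · exact Fin.ext (Fin.mk.inj (hinj e))
    · exact absurd e (hga _).ne'
    · exact absurd (e ▸ hga _) (hY _).2
    · exact absurd e.symm (hga _).ne'
    · exact Fin.ext (x2.trans y2.symm)
    · exact absurd e.symm (hY _).1
    · exact absurd (e.symm ▸ hga _) (hY _).2
    · exact absurd e (hY _).1
    · have := Fin.mk.inj ((hYi _).symm.trans ((congrArg idx e).trans (hYi _)))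
      exact Fin.ext (by omega)
  have hfbij : Function.Bijective f :=
    (Fintype.bijective_iff_injective_and_card f).2 ⟨hfinj, by simp [h.card]⟩
  refine ⟨Equiv.ofBijective f hfbij, ?_⟩
  -- the three nontrivial types of pairs
  have centre : ∀ y : Fin 275, stdGraph.Adj ⟨112, by norm_num⟩ y ↔ y.1 < 112 := fun y => by
    rw [adj_iff, centre_check, Nat.testBit_two_pow_sub_one, decide_eq_true_eq]
  have cross : ∀ (x : Fin 112) (i : Fin 162),
      stdGraph.Adj ⟨113 + i, by omega⟩ ⟨x, by omega⟩ ↔ Γ.Adj (Y i) (g x) := by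
    intro x i
    have h1 := hidx _ (hY i) x
    rw [hYi, fam, testBit_famMask _ _ x.2] at h1
    rw [adj_iff]
    show (rowOf (113 + i)).testBit x = true ↔ _
    rw [h1, decide_eq_true_eq]
  have farfar : ∀ i j : Fin 162, stdGraph.Adj ⟨113 + i, by omega⟩ ⟨113 + j, by omega⟩ ↔ Γ.Adj (Y i) (Y j) := by
    intro i j
    by_cases hij : i = j
    · subst hij; exact iff_of_false (stdGraph.loopless.irrefl _) (Γ.loopless.irrefl _)
    have hne : Y i ≠ Y j := fun e => hij (by rw [← hYi i, ← hYi j, e])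
    have hc := allRows_spec far_check (show 113 + i.1 < 275 by omega)
    simp only [Bool.or_eq_true, Bool.and_eq_true, Nat.ble_eq] at hc
    rcases hc with hc | ⟨-, hc⟩
    · omega
    have hd := allRows_spec hc (show 113 + j.1 < 275 by omega)
    simp only [Bool.or_eq_true, Nat.ble_eq, beq_iff_eq] at hd
    rcases hd with (hd | hd) | hd
    · omega
    · exact absurd (Fin.ext (by omega)) hij
    rw [adj_iff]
    show (rowOf (113 + i)).testBit (113 + j) = true ↔ _
    rw [hd, pc_card (univ.filter fun x : Fin 112 => Γ.Adj (Y i) (g x) ∧ Γ.Adj (Y j) (g x)) (fun x => ?_), hcount,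
      hpair _ _ (hY i) (hY j) hne]
    · split_ifs with hadj' <;> simp [hadj']
    · have a1 := hidx _ (hY i) x
      have a2 := hidx _ (hY j) x
      rw [hYi, fam] at a1; rw [hYi, fam] at a2
      simp [a1, a2]
  intro x y
  show Γ.Adj (f x) (f y) ↔ _
  simp only [hf]
  have ey : ∀ z : Fin 275, ¬ z.1 < 112 → z.1 ≠ 112 → z = ⟨113 + (z.1 - 113), by omega⟩ := fun z _ _ =>
    Fin.ext (by show z.1 = 113 + (z.1 - 113); omega)
  split_ifs with x1 y1 y2 x2 y1 y2 y1 y2
  · rw [hadj, adj_iff, testBit_quad x1 y1]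
  · rw [show y = ⟨112, by norm_num⟩ from Fin.ext y2, stdGraph.adj_comm, centre]
    exact iff_of_true (hga _).symm x1
  · rw [Γ.adj_comm, stdGraph.adj_comm x y, ← cross]
    conv_rhs => rw [ey y y1 y2]
  · rw [show x = ⟨112, by norm_num⟩ from Fin.ext x2, centre]
    exact iff_of_true (hga _) y1
  · rw [show x = ⟨112, by norm_num⟩ from Fin.ext x2, centre]
    exact iff_of_false (Γ.loopless.irrefl _) y1
  · rw [show x = ⟨112, by norm_num⟩ from Fin.ext x2, centre]
    exact iff_of_false (hY _).2 y1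
  · rw [← cross]
    conv_rhs => rw [ey x x1 x2]
  · rw [show y = ⟨112, by norm_num⟩ from Fin.ext y2, stdGraph.adj_comm, centre]
    exact iff_of_false (fun e => (hY _).2 e.symm) x1
  · rw [← farfar]
    conv_rhs => rw [ey x x1 x2, ey y y1 y2]

/-- The automorphisms of the standard graph number at most `75` times the order of McL. -/
theorem card_autPerm_le : Nat.card autPerm ≤ 75 * 898128000 := by
  classical
  obtain ⟨φ, hφ⟩ := exists_iso h
  let nbr : V → Finset V := fun a => univ.filter fun w => Γ.Adj a w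
  let T : Finset (V × V × V × V × V × V) := (univ : Finset V).biUnion fun a => (nbr a).biUnion fun p =>
    (univ.filter (IsFar Γ a p)).biUnion fun q =>
      (nb2 Γ a q ×ˢ nb2 Γ a q ×ˢ nb2 Γ a q).image fun t => (a, p, q, t)
  have hT : T.card ≤ 275 * (112 * (81 * 27000)) := by
    refine card_biUnion_le.trans ((sum_le_card_nsmul _ _ (112 * (81 * 27000)) fun a _ => ?_).trans (by simp [h.card]))
    refine card_biUnion_le.trans ((sum_le_card_nsmul _ _ (81 * 27000) fun p hp => ?_).trans (by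
      simp [nbr, card_nbr h a]))
    refine card_biUnion_le.trans ((sum_le_card_nsmul _ _ 27000 fun q hq => ?_).trans (by
      simp [card_far h (mem_filter.1 hp).2]))
    refine card_image_le.trans ?_
    rw [card_product, card_product, card_nb2 h (mem_filter.1 hq).2.1]
  let b : Fin 6 → Fin 275 := fun i => Fin.ofNat 275 (rigidBase.getD i 0)
  have hb : ∀ x : Fin 275, x.1 ∈ rigidBase → ∃ i, b i = x :=
    fun x hx => (show ∀ n ∈ rigidBase, ∃ i, (b i).1 = n by decide +kernel) x hx |>.imp fun i e => Fin.ext e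
  have hbadj : stdGraph.Adj (b 0) (b 1) ∧ stdGraph.Adj (b 0) (b 2) ∧ b 2 ≠ b 1 ∧ ¬ stdGraph.Adj (b 1) (b 2) ∧
      stdGraph.Adj (b 0) (b 3) ∧ stdGraph.Adj (b 2) (b 3) ∧ stdGraph.Adj (b 0) (b 4) ∧ stdGraph.Adj (b 2) (b 4) ∧
      stdGraph.Adj (b 0) (b 5) ∧ stdGraph.Adj (b 2) (b 5) := by decide +kernel
  let tup : autPerm → V × V × V × V × V × V := fun F =>
    (φ (F.1 (b 0)), φ (F.1 (b 1)), φ (F.1 (b 2)), φ (F.1 (b 3)), φ (F.1 (b 4)), φ (F.1 (b 5)))
  have hmem : ∀ F, tup F ∈ T := by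
    intro F
    have ha : ∀ u v, Γ.Adj (φ (F.1 u)) (φ (F.1 v)) ↔ stdGraph.Adj u v := fun u v => (hφ _ _).trans (F.2 u v)
    obtain ⟨c1, c2, c3, c4, c5, c6, c7, c8, c9, c10⟩ := hbadj
    simp only [T, tup, nbr, mem_biUnion, mem_univ, true_and, mem_filter, mem_image, mem_product, mem_nb2]
    exact ⟨_, _, (ha _ _).2 c1, _, ⟨(ha _ _).2 c2, fun e => c3 (F.1.injective (φ.injective e)),
      fun e => c4 ((ha _ _).1 e)⟩, _, ⟨⟨(ha _ _).2 c5, (ha _ _).2 c6⟩, ⟨(ha _ _).2 c7, (ha _ _).2 c8⟩,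
      (ha _ _).2 c9, (ha _ _).2 c10⟩, rfl⟩
  have hinj : Function.Injective tup := by
    intro F F' e
    simp only [tup, Prod.mk.injEq, φ.injective.eq_iff] at e
    have hfix := rigid (autPerm.mul_mem (autPerm.inv_mem F'.2) F.2) (fun x hx => by
      obtain ⟨i, rfl⟩ := hb x hx
      obtain ⟨e0, e1, e2, e3, e4, e5⟩ := e
      have : F.1 (b i) = F'.1 (b i) := by fin_cases i <;> assumption
      simp [this])
    exact Subtype.ext (eq_of_inv_mul_eq_one hfix).symm
  calc Nat.card autPerm ≤ Nat.card T := Nat.card_le_card_of_injective (fun F => ⟨tup F, hmem F⟩)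
        fun F F' e => hinj (congrArg Subtype.val e)
    _ ≤ 75 * 898128000 := by rw [Nat.card_eq_fintype_card, Fintype.card_coe]; omega

end Cfsg.Agent.McLUniq
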