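import Cfsg.Agent.Lib.McLUniq.Conf
import Cfsg.Agent.Lib.McLUniq.ModelData
import Cfsg.Agent.Lib.SporPerm.McLData

/-!
The standard graph on 275 points: kernel checks.
-/

set_option autoImplicit false
set_option maxRecDepth 100000

namespace Cfsg.Agent.McLUniq

open Cfsg.Agent.PermCert (get allBelow)

/-- A row of the standard graph. -/
def rowOf (x : ℕ) : ℕ := stdRows.getD x 0

/-- All pairs below `n`, with the rows at hand. -/
def allRows (p : ℕ → ℕ → Bool) : Bool := stdRows.zipIdx.all fun r => p r.2 r.1

/-- Adjacency in the quadrangle with the code given. -/
def adjWith (W : List (List ℕ)) (x y : ℕ) : Bool :=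
  if x == 0 then Nat.blt 0 y && Nat.blt y 31
  else if y == 0 then Nat.blt x 31
  else if Nat.blt x 31 then
    if Nat.blt y 31 then (x != y) && ((x - 1) / 3 == (y - 1) / 3)
    else (W.getD (y - 31) []).getD ((x - 1) / 3) 0 == (x - 1) % 3
  else if Nat.blt y 31 then (W.getD (x - 31) []).getD ((y - 1) / 3) 0 == (y - 1) % 3
  else agreeL (W.getD (x - 31) []) (W.getD (y - 31) []) == 1

/-- The packed table of bit sums of bytes, as a literal. -/
def popTable : ℕ :=
  95125173855764218123276304889944061997689682402263585766959741291920687686033329201817409157123347502415384089435969498586180241031507595463600295898153685276653211633572815512294064538494957912327413386667662218713394765509704508661031522276467630197481635010039778342554499416459730172574551513689147646224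

/-- The number of bits below `8 k`. -/
def pc : ℕ → ℕ → ℕ
  | 0, _ => 0
  | k + 1, m => (popTable >>> (4 * (m % 256))) % 16 + pc k (m >>> 8)

/-- A row restricted to the quadrangle. -/
def famMask (r : ℕ) : ℕ := r % 2 ^ 112

/-- Check that each vertex is determined by the ones before it. -/
def rigidOK : ℕ → List ℕ → Bool
  | K, [] => allBelow (fun w => K.testBit w) 275
  | K, v :: vs => (fun rv => allRows fun w r => w == v || K.testBit w || ((r ^^^ rv) &&& K != 0)) (rowOf v) &&
      Nat.blt v 275 && rigidOK (K ||| 2 ^ v) vs

/-- The mask of a list. -/
def maskOf (l : List ℕ) : ℕ := l.foldr (fun v m => 2 ^ v ||| m) 0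

theorem stdWords_eq : stdWords = stdWordsLit := by decide +kernel

theorem stdRows_length : stdRows.length = 275 := by decide +kernel

theorem symm_check : (allRows fun x r => !r.testBit x &&
    allRows fun y s => r.testBit y == s.testBit x) = true := by decide +kernel

theorem quad_check : (allRows fun x r => Nat.ble 112 x ||
    allBelow (fun y => r.testBit y == adjWith stdWordsLit x y) 112) = true := by decide +kernel

theorem centre_check : rowOf 112 = 2 ^ 112 - 1 := by decide +kernel

theorem pop_table : (allBelow (fun m => (popTable >>> (4 * m)) % 16 == (List.range 8).countP fun i => m.testBit i) 256)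
    = true := by decide +kernel

theorem far_check : (allRows fun x r => Nat.ble x 112 || (!r.testBit 112 &&
    allRows fun y s => Nat.ble y 112 || x == y ||
      r.testBit y == (pc 14 (famMask r &&& famMask s) == 20))) = true := by decide +kernel

theorem relabel_check : PermCert.validElt 9 275 (relabel, relabelInv) = true := by decide +kernel

theorem gen_valid : SporPerm.mclGens.all (PermCert.validElt 9 275) = true := by decide +kernel

theorem gen_check : ((SporPerm.mclGens.zip stdGens).all fun e =>
    allBelow (fun x => get 9 relabel (get 9 e.1.1 (get 9 relabelInv x)) == get 9 e.2 x) 275 &&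
    allRows fun x r => (fun r' => allBelow (fun y => r.testBit y == r'.testBit (get 9 e.2 y)) 275)
      (rowOf (get 9 e.2 x))) = true := by decide +kernel

theorem gens_length : SporPerm.mclGens.length = 2 ∧ stdGens.length = 2 := by decide +kernel

theorem rigid_check : rigidOK (maskOf rigidBase) rigidOrder = true := by decide +kernel

theorem row_lt_check : allRows (fun _ r => Nat.blt r (2 ^ 275)) = true := by decide +kernel

end Cfsg.Agent.McLUniq
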