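import Cfsg.Agent.Lib.McLUniq.Coord
import Cfsg.Agent.Lib.McLUniq.ModelCheck
import Cfsg.Agent.Lib.SporPerm.McLModel

/-!
The standard graph on 275 points.
-/

set_option autoImplicit false
set_option maxRecDepth 100000

namespace Cfsg.Agent.McLUniq

open Finset
open Cfsg.Agent.PermCert (get allBelow allBelow_spec)

/-- The standard graph. -/
def stdGraph : SimpleGraph (Fin 275) where
  Adj x y := (rowOf x).testBit y = true ∧ (rowOf y).testBit x = true ∧ x ≠ y
  symm := ⟨fun _ _ ⟨a, b, c⟩ => ⟨b, a, c.symm⟩⟩
  loopless := ⟨fun _ ⟨_, _, c⟩ => c rfl⟩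

instance : DecidableRel stdGraph.Adj := fun x y =>
  inferInstanceAs (Decidable ((rowOf x).testBit y = true ∧ (rowOf y).testBit x = true ∧ x ≠ y))

theorem allRows_spec {p : ℕ → ℕ → Bool} (h : allRows p = true) {x : ℕ} (hx : x < 275) : p x (rowOf x) = true := by
  have := List.all_eq_true.1 h (stdRows[x]'(stdRows_length ▸ hx), x)
    (List.mem_zipIdx_iff_getElem?.2 (List.getElem?_eq_getElem _))
  rwa [rowOf, List.getD_eq_getElem?_getD, List.getElem?_eq_getElem (stdRows_length ▸ hx)]

theorem adj_iff (x y : Fin 275) : stdGraph.Adj x y ↔ (rowOf x).testBit y = true := by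
  refine ⟨fun h => h.1, fun h => ?_⟩
  have hc := allRows_spec symm_check x.2
  simp only [Bool.and_eq_true, Bool.not_eq_true'] at hc
  have := allRows_spec hc.2 y.2
  simp only [beq_iff_eq] at this
  refine ⟨h, this ▸ h, ?_⟩
  rintro rfl
  rw [hc.1] at h
  exact Bool.false_ne_true h

theorem stdAdj_eq (x y : ℕ) : stdAdj x y = adjWith stdWordsLit x y := by rw [stdAdj, stdWords_eq, adjWith]

theorem testBit_quad {x y : ℕ} (hx : x < 112) (hy : y < 112) : (rowOf x).testBit y = stdAdj x y := by
  have := allRows_spec quad_check (show x < 275 by omega)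
  simp only [Bool.or_eq_true, Nat.ble_eq] at this
  rcases this with h | h
  · omega
  · rw [stdAdj_eq]; simpa using allBelow_spec _ _ h y hy

theorem pc_eq : ∀ k m, pc k m = (List.range (8 * k)).countP fun i => m.testBit i
  | 0, m => rfl
  | k + 1, m => by
    rw [pc, pc_eq k, show 8 * (k + 1) = 8 + 8 * k by ring, List.range_add, List.countP_append, List.countP_map]
    have h := allBelow_spec _ _ pop_table (m % 256) (Nat.mod_lt _ (by norm_num))
    rw [beq_iff_eq] at h
    rw [h]
    congr 1
    · refine List.countP_congr fun i hi => ?_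
      rw [show (256 : ℕ) = 2 ^ 8 from rfl, Nat.testBit_mod_two_pow]
      simp [List.mem_range.1 hi]
    · refine List.countP_congr fun i _ => ?_
      simp [Nat.testBit_shiftRight]

theorem pc_card {m : ℕ} (s : Finset (Fin 112)) (h : ∀ x : Fin 112, x ∈ s ↔ m.testBit x = true) :
    pc 14 m = s.card := by
  rw [pc_eq, show (8 * 14) = 112 from rfl, List.countP_eq_length_filter]
  rw [← List.toFinset_card_of_nodup (List.nodup_range.filter _)]
  rw [← Finset.card_map Fin.valEmbedding]
  congr 1
  ext i
  simp only [List.mem_toFinset, List.mem_filter, List.mem_range, mem_map, Fin.valEmbedding_apply]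
  exact ⟨fun ⟨h1, h2⟩ => ⟨⟨i, h1⟩, (h _).2 h2, rfl⟩, fun ⟨x, h1, e⟩ => e ▸ ⟨x.2, (h x).1 h1⟩⟩

theorem testBit_famMask (r x : ℕ) (hx : x < 112) : (famMask r).testBit x = r.testBit x := by
  rw [famMask, Nat.testBit_mod_two_pow, decide_eq_true hx, Bool.true_and]

/-! ### The coded McLaughlin group -/

/-- The relabelling. -/
def sigma : Equiv.Perm (Fin 275) := PermCert.toPerm 9 275 (relabel, relabelInv)

theorem sigma_gen {e : PermCert.Elt} (he : e ∈ SporPerm.mclGens) (x y : Fin 275) :
    stdGraph.Adj (sigma (PermCert.toPerm 9 275 e (sigma⁻¹ x))) (sigma (PermCert.toPerm 9 275 e (sigma⁻¹ y))) ↔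
      stdGraph.Adj x y := by
  obtain ⟨i, hi, rfl⟩ := List.mem_iff_getElem.1 he
  have hi' : i < stdGens.length := by rw [gens_length.2, ← gens_length.1]; exact hi
  have hz := List.all_eq_true.1 gen_check (SporPerm.mclGens[i], stdGens[i])
    (List.mem_iff_getElem.2 ⟨i, by simp [hi, hi'], by rw [List.getElem_zip]; rfl⟩)
  simp only [Bool.and_eq_true] at hz
  have hv := List.all_eq_true.1 gen_valid _ (List.getElem_mem hi)
  have key : ∀ z : Fin 275, (sigma (PermCert.toPerm 9 275 SporPerm.mclGens[i] (sigma⁻¹ z))).1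
      = get 9 stdGens[i] z := by
    intro z
    have := allBelow_spec _ _ hz.1 z z.2
    rw [beq_iff_eq] at this
    rw [← this]
    simp only [sigma] at this ⊢
    have a : get 9 relabelInv z = _ := (PermCert.rep_toPerm relabel_check z).2
    have b := (PermCert.rep_toPerm hv ((PermCert.toPerm 9 275 (relabel, relabelInv))⁻¹ z)).1
    have c := (PermCert.rep_toPerm relabel_check (PermCert.toPerm 9 275 SporPerm.mclGens[i]
      ((PermCert.toPerm 9 275 (relabel, relabelInv))⁻¹ z))).1
    rw [a]
    exact c.symm.trans (congrArg (get 9 relabel) b.symm)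
  rw [adj_iff, adj_iff]
  simp only [sigma] at key ⊢
  erw [key, key]
  have hb := allBelow_spec _ _ (allRows_spec hz.2 x.2) y y.2
  rw [beq_iff_eq] at hb
  rw [hb]

/-- The permutations preserving the standard graph. -/
def autPerm : Subgroup (Equiv.Perm (Fin 275)) where
  carrier := {f | ∀ x y, stdGraph.Adj (f x) (f y) ↔ stdGraph.Adj x y}
  one_mem' := fun _ _ => Iff.rfl
  mul_mem' := fun {f g} hf hg x y => (hf (g x) (g y)).trans (hg x y)
  inv_mem' := fun {f} hf x y => by
    have := hf (f⁻¹ x) (f⁻¹ y)
    simp only [Equiv.Perm.inv_def, Equiv.apply_symm_apply] at this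
    exact this.symm

/-- The coded McLaughlin group in the standard labels. -/
def mclStd : Subgroup (Equiv.Perm (Fin 275)) :=
  (PermCert.genGroup 9 275 SporPerm.mclGens).map (MulAut.conj sigma).toMonoidHom

theorem mclStd_le : mclStd ≤ autPerm := by
  rw [mclStd, PermCert.genGroup, MonoidHom.map_closure, Subgroup.closure_le]
  rintro f ⟨g, hg, rfl⟩
  obtain ⟨e, he, rfl⟩ := List.mem_map.1 hg
  exact fun x y => sigma_gen he x y

theorem nonempty_mclStd_equiv : Nonempty (↥mclStd ≃* ↥Cfsg.Spor.McL) := by
  obtain ⟨e⟩ := SporPerm.mcl_equiv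
  exact ⟨((Subgroup.equivMapOfInjective _ (MulAut.conj sigma).toMonoidHom (MulAut.conj sigma).injective).symm).trans
    e.symm⟩

theorem card_mclStd : Nat.card mclStd = 898128000 := by
  obtain ⟨e⟩ := nonempty_mclStd_equiv
  rw [Nat.card_congr e.toEquiv, Leech.isMcL_spor.2]

/-! ### Rigidity -/

theorem testBit_maskOf : ∀ (l : List ℕ) (i : ℕ), (maskOf l).testBit i = true ↔ i ∈ l
  | [], i => by simp [maskOf]
  | v :: l, i => by
    show (2 ^ v ||| maskOf l).testBit i = true ↔ _
    rw [Nat.testBit_or, Bool.or_eq_true, testBit_maskOf l i, Nat.testBit_two_pow, decide_eq_true_eq,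
      List.mem_cons, eq_comm]

theorem rigid_of_check {f : Equiv.Perm (Fin 275)} (hf : f ∈ autPerm) : ∀ (vs : List ℕ) (K : ℕ),
    rigidOK K vs = true → (∀ x : Fin 275, K.testBit x = true → f x = x) → f = 1
  | [], K, h, hK => Equiv.ext fun x => hK x (allBelow_spec _ _ h x x.2)
  | v :: vs, K, h, hK => by
    simp only [rigidOK, Bool.and_eq_true, Nat.blt_eq] at h
    obtain ⟨⟨h1, hv⟩, h2⟩ := h
    refine rigid_of_check hf vs _ h2 fun x hx => ?_
    rw [Nat.testBit_or, Bool.or_eq_true, Nat.testBit_two_pow, decide_eq_true_eq] at hx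
    rcases hx with hx | hx
    · exact hK x hx
    · by_cases hKx : K.testBit x = true
      · exact hK x hKx
      have hw := allRows_spec h1 (f x).2
      simp only [Bool.or_eq_true, beq_iff_eq, bne_iff_ne] at hw
      rcases hw with (e | e) | e
      · exact Fin.ext (e.trans hx)
      · have := hK _ e
        exact absurd ((f.injective this) ▸ e) hKx
      · exfalso
        refine e (Nat.eq_of_testBit_eq fun i => ?_)
        rw [Nat.testBit_and, Nat.testBit_xor, Nat.zero_testBit]
        by_cases hi : K.testBit i = true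
        · rw [hi, Bool.and_true]
          by_cases hi5 : i < 275
          · have h3 := hK ⟨i, hi5⟩ hi
            have h4 := hf x ⟨i, hi5⟩
            rw [h3, adj_iff, adj_iff] at h4
            rw [hx]
            simp only [bne_eq_false_iff_eq]
            exact Bool.eq_iff_iff.2 h4
          · have hlt : ∀ z < 275, (rowOf z).testBit i = false := fun z hz => by
              have := allRows_spec row_lt_check hz
              rw [Nat.blt_eq] at this
              exact Nat.testBit_lt_two_pow (this.trans_le (Nat.pow_le_pow_right (by norm_num) (by omega)))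
            rw [hlt _ (f x).2, hlt _ hv]
            rfl
        · simp [hi]

/-- An automorphism fixing the base is trivial. -/
theorem rigid {f : Equiv.Perm (Fin 275)} (hf : f ∈ autPerm)
    (hb : ∀ x : Fin 275, x.1 ∈ rigidBase → f x = x) : f = 1 :=
  rigid_of_check hf _ _ rigid_check fun x hx => hb x ((testBit_maskOf _ _).1 hx)

end Cfsg.Agent.McLUniq
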