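import Mathlib.Combinatorics.SimpleGraph.StronglyRegular
import Mathlib.Combinatorics.SimpleGraph.Clique
import Mathlib.Tactic

/-!
Moments of the Euclidean representation of a strongly regular graph with parameters (275, 112, 30, 56).

The scaled Gram matrix `g = 2 - 5 A + 10` satisfies `g * g = 150 g`, and the Krein parameter zero makes the
cubic moments vanish.  Consequences: common neighbours of triples, and cliques of size four and five.
-/

set_option autoImplicit false

namespace Cfsg.Agent.McLUniq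

open Finset

variable {V : Type*} [Fintype V] [DecidableEq V]

section Def

variable (Γ : SimpleGraph V) [DecidableRel Γ.Adj]

/-- The adjacency indicator. -/
def ind (x y : V) : ℤ := if Γ.Adj x y then 1 else 0

/-- The scaled Gram matrix. -/
def gram (x y : V) : ℤ := 2 - 5 * ind Γ x y + 10 * (if x = y then 1 else 0)

/-- The number of common neighbours. -/
def cn (x y : V) : ℕ := (univ.filter fun w => Γ.Adj x w ∧ Γ.Adj y w).card

/-- The sum of a row over a set. -/
def rowSum (S : Finset V) (w : V) : ℤ := ∑ x ∈ S, gram Γ w x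

end Def

variable {Γ : SimpleGraph V} [DecidableRel Γ.Adj]

theorem ind_comm (x y : V) : ind Γ x y = ind Γ y x := by simp [ind, Γ.adj_comm]

theorem gram_comm (x y : V) : gram Γ x y = gram Γ y x := by
  rw [gram, gram, ind_comm]; simp only [eq_comm]

theorem gram_self (x : V) : gram Γ x x = 12 := by simp [gram, ind]

theorem gram_adj {x y : V} (h : Γ.Adj x y) : gram Γ x y = -3 := by simp [gram, ind, h, h.ne]

theorem gram_nonadj {x y : V} (h : ¬ Γ.Adj x y) (hne : x ≠ y) : gram Γ x y = 2 := by simp [gram, ind, h, hne]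

theorem cn_eq (x y : V) : cn Γ x y = Fintype.card (Γ.commonNeighbors x y) := by
  rw [← Set.toFinset_card, cn]
  congr 1
  ext w
  simp [SimpleGraph.mem_commonNeighbors]

theorem sum_ind_mul (x y : V) : ∑ w, ind Γ w x * ind Γ w y = (cn Γ x y : ℤ) := by
  rw [cn, Finset.card_filter]
  push_cast
  refine sum_congr rfl fun w _ => ?_
  simp only [ind, Γ.adj_comm x w, Γ.adj_comm y w]
  split_ifs <;> simp_all

variable (h : Γ.IsSRGWith 275 112 30 56)
include h

theorem cn_adj {x y : V} (hxy : Γ.Adj x y) : cn Γ x y = 30 := by rw [cn_eq, h.of_adj x y hxy]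

theorem cn_nonadj {x y : V} (hne : x ≠ y) (hxy : ¬ Γ.Adj x y) : cn Γ x y = 56 := by
  rw [cn_eq, h.of_not_adj hne hxy]

theorem card_nbr (x : V) : (univ.filter fun w => Γ.Adj x w).card = 112 := by
  rw [← h.regular x, ← Γ.card_neighborFinset_eq_degree]
  congr 1
  ext w
  simp

theorem sum_ind (x : V) : ∑ w, ind Γ w x = 112 := by
  have := card_nbr h x
  rw [Finset.card_filter] at this
  have e : ∑ w, ind Γ w x = ((∑ w : V, if Γ.Adj x w then 1 else 0 : ℕ) : ℤ) := by
    push_cast
    exact sum_congr rfl fun w _ => by simp [ind, Γ.adj_comm x w]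
  rw [e, this]; rfl

theorem sum_gram (x : V) : ∑ w, gram Γ w x = 0 := by
  simp only [gram, sum_add_distrib, sum_sub_distrib, ← mul_sum, sum_const, card_univ, h.card, sum_ind h,
    sum_ite_eq', mem_univ, if_true]
  norm_num

theorem gram_sq (x y : V) : ∑ w, gram Γ w x * gram Γ w y = 150 * gram Γ x y := by
  have e : ∀ w, gram Γ w x * gram Γ w y = 4 - 10 * ind Γ w x - 10 * ind Γ w y + 25 * (ind Γ w x * ind Γ w y)
      + (if w = x then 10 * (2 - 5 * ind Γ w y) else 0) + (if w = y then 10 * (2 - 5 * ind Γ w x) else 0)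
      + (if w = x then (if w = y then 100 else 0) else 0) := fun w => by
    rw [gram, gram]; split_ifs <;> ring
  simp only [e, sum_add_distrib, sum_sub_distrib, ← mul_sum, sum_ind h, sum_ind_mul, sum_const, card_univ,
    h.card, sum_ite_eq', mem_univ, if_true, nsmul_eq_mul]
  by_cases hxy : x = y
  · subst hxy
    have : cn Γ x x = 112 := by
      rw [cn, ← card_nbr h x]; congr 1; ext w; simp
    rw [this, gram_self, show ind Γ x x = 0 by simp [ind]]
    norm_num
  · by_cases ha : Γ.Adj x y
    · rw [cn_adj h ha, gram_adj ha, show ind Γ x y = 1 by simp [ind, ha],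
        show ind Γ y x = 1 by simp [ind, ha.symm]]
      simp [hxy]
    · rw [cn_nonadj h hxy ha, gram_nonadj ha hxy, show ind Γ x y = 0 by simp [ind, ha],
        show ind Γ y x = 0 by simp [ind, Γ.adj_comm y x, ha]]
      simp [hxy]

theorem gram_cube (w : V) : ∑ x, gram Γ w x ^ 3 = 0 := by
  have e : ∀ x, gram Γ w x ^ 3 = 8 - 35 * ind Γ x w + (if x = w then 1720 else 0) := fun x => by
    by_cases hx : x = w
    · subst hx; rw [gram_self, if_pos rfl, show ind Γ x x = 0 by simp [ind]]; norm_num
    · by_cases ha : Γ.Adj w x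
      · rw [gram_adj ha, if_neg hx, show ind Γ x w = 1 by simp [ind, ha.symm]]; norm_num
      · rw [gram_nonadj ha (Ne.symm hx), if_neg hx, show ind Γ x w = 0 by simp [ind, Γ.adj_comm x w, ha]]
        norm_num
  simp only [e, sum_add_distrib, sum_sub_distrib, ← mul_sum, sum_ind h, sum_const, card_univ, h.card,
    sum_ite_eq', mem_univ, if_true, nsmul_eq_mul]
  norm_num

/-- The cubic moments vanish. -/
theorem moment_three (x y z : V) : ∑ w, gram Γ w x * gram Γ w y * gram Γ w z = 0 := by
  have key : ∑ x, ∑ y, ∑ z, (∑ w, gram Γ w x * gram Γ w y * gram Γ w z) ^ 2 = 0 := by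
    calc ∑ x, ∑ y, ∑ z, (∑ w, gram Γ w x * gram Γ w y * gram Γ w z) ^ 2
        = ∑ x, ∑ y, ∑ z, ∑ w, ∑ v,
            (gram Γ w x * gram Γ v x) * (gram Γ w y * gram Γ v y) * (gram Γ w z * gram Γ v z) := by
          refine sum_congr rfl fun x _ => sum_congr rfl fun y _ => sum_congr rfl fun z _ => ?_
          rw [sq, sum_mul_sum]
          exact sum_congr rfl fun w _ => sum_congr rfl fun v _ => by ring
      _ = ∑ w, ∑ v, ∑ x, ∑ y, ∑ z,
            (gram Γ w x * gram Γ v x) * (gram Γ w y * gram Γ v y) * (gram Γ w z * gram Γ v z) := by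
          rw [sum_congr rfl fun x _ => sum_congr rfl fun y _ => sum_comm]
          rw [sum_congr rfl fun x _ => sum_comm]
          rw [sum_comm]
          refine sum_congr rfl fun w _ => ?_
          rw [sum_congr rfl fun x _ => sum_congr rfl fun y _ => sum_comm]
          rw [sum_congr rfl fun x _ => sum_comm]
          rw [sum_comm]
      _ = ∑ w, ∑ v, (150 * gram Γ w v) ^ 3 := by
          refine sum_congr rfl fun w _ => sum_congr rfl fun v _ => ?_
          have hs : ∑ x, gram Γ w x * gram Γ v x = 150 * gram Γ w v := by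
            rw [← gram_sq h]
            exact sum_congr rfl fun x _ => by rw [gram_comm w x, gram_comm v x]
          rw [← hs, pow_three, sum_mul_sum, sum_mul_sum]
          refine sum_congr rfl fun x _ => ?_
          simp only [mul_sum]
          exact sum_congr rfl fun y _ => sum_congr rfl fun z _ => by ring
      _ = 0 := by simp only [mul_pow, ← mul_sum, gram_cube h, mul_zero, sum_const_zero]
  have h1 := (sum_eq_zero_iff_of_nonneg fun x _ => sum_nonneg fun y _ => sum_nonneg fun z _ => sq_nonneg _).1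
    key x (mem_univ x)
  have h2 := (sum_eq_zero_iff_of_nonneg fun y _ => sum_nonneg fun z _ => sq_nonneg _).1 h1 y (mem_univ y)
  have h3 := (sum_eq_zero_iff_of_nonneg fun z _ => sq_nonneg _).1 h2 z (mem_univ z)
  exact sq_eq_zero_iff.1 h3

theorem sum_rowSum (S : Finset V) : ∑ w, rowSum Γ S w = 0 := by
  simp only [rowSum]; rw [sum_comm]; exact sum_eq_zero fun x _ => sum_gram h x

theorem sum_rowSum_sq (S : Finset V) :
    ∑ w, rowSum Γ S w ^ 2 = 150 * ∑ x ∈ S, rowSum Γ S x := by
  have e : ∀ w, rowSum Γ S w ^ 2 = ∑ x ∈ S, ∑ y ∈ S, gram Γ w x * gram Γ w y := fun w => by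
    rw [rowSum, sq, sum_mul_sum]
  simp only [e]
  rw [sum_comm]
  simp only [rowSum, mul_sum]
  refine sum_congr rfl fun x _ => ?_
  rw [sum_comm]
  exact sum_congr rfl fun y _ => gram_sq h x y

theorem sum_rowSum_cube (S : Finset V) : ∑ w, rowSum Γ S w ^ 3 = 0 := by
  have e : ∀ w, rowSum Γ S w ^ 3 = ∑ x ∈ S, ∑ y ∈ S, ∑ z ∈ S, gram Γ w x * (gram Γ w y * gram Γ w z) := fun w => by
    rw [rowSum, pow_three, sum_mul_sum, sum_mul_sum]
    simp only [mul_sum]
  simp only [e]
  rw [sum_comm]
  refine sum_eq_zero fun x _ => ?_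
  rw [sum_comm]
  refine sum_eq_zero fun y _ => ?_
  rw [sum_comm]
  refine sum_eq_zero fun z _ => ?_
  rw [← moment_three h x y z]
  exact sum_congr rfl fun w _ => by ring

omit h in
theorem rowSum_clique {S : Finset V} (hS : Γ.IsClique (S : Set V)) {w : V} (hw : w ∈ S) :
    rowSum Γ S w = 15 - 3 * (S.card : ℤ) := by
  rw [rowSum, ← add_sum_erase _ _ hw, gram_self, sum_congr rfl fun x hx => gram_adj
    (hS hw (mem_erase.1 hx).2 (mem_erase.1 hx).1.symm), sum_const, card_erase_of_mem hw, nsmul_eq_mul,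
    Nat.cast_sub (Finset.card_pos.2 ⟨w, hw⟩)]
  push_cast
  ring

omit h in
theorem rowSum_outside {S : Finset V} {w : V} (hw : w ∉ S) :
    rowSum Γ S w = 2 * (S.card : ℤ) - 5 * ((S.filter fun x => Γ.Adj w x).card : ℤ) := by
  rw [rowSum, sum_congr rfl fun x hx => show gram Γ w x = 2 - 5 * ind Γ w x by
    rw [gram, if_neg (fun e : w = x => hw (e ▸ hx))]; ring, sum_sub_distrib, ← mul_sum, sum_const, card_filter]
  push_cast
  simp [ind]
  ring

/-- No vertex outside a clique of size four has exactly three neighbours in it. -/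
theorem clique_four {S : Finset V} (hS : Γ.IsClique (S : Set V)) (hc : S.card = 4) {w : V} (hw : w ∉ S) :
    (S.filter fun x => Γ.Adj w x).card ≠ 3 := by
  intro h3
  have hsum : ∑ v, ((rowSum Γ S v - 3) * (rowSum Γ S v + 2) * (rowSum Γ S v + 12)) = 0 := by
    have e : ∀ v, (rowSum Γ S v - 3) * (rowSum Γ S v + 2) * (rowSum Γ S v + 12)
        = rowSum Γ S v ^ 3 + 11 * rowSum Γ S v ^ 2 - 18 * rowSum Γ S v - 72 := fun v => by ring
    have hin : ∑ x ∈ S, rowSum Γ S x = 12 := by
      rw [sum_congr rfl fun x hx => rowSum_clique hS hx, sum_const, hc]; norm_num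
    simp only [e, sum_add_distrib, sum_sub_distrib, ← mul_sum, sum_rowSum_cube h, sum_rowSum_sq h, sum_rowSum h,
      hin, sum_const, card_univ, h.card]
    norm_num
  have hnn : ∀ v ∈ (univ : Finset V),
      0 ≤ (rowSum Γ S v - 3) * (rowSum Γ S v + 2) * (rowSum Γ S v + 12) := by
    intro v _
    by_cases hv : v ∈ S
    · rw [rowSum_clique hS hv, hc]; norm_num
    · have hk : (S.filter fun x => Γ.Adj v x).card ≤ 4 := hc ▸ card_filter_le _ _
      rw [rowSum_outside hv, hc]
      generalize (S.filter fun x => Γ.Adj v x).card = k at hk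
      interval_cases k <;> norm_num
  have := (sum_eq_zero_iff_of_nonneg hnn).1 hsum w (mem_univ w)
  rw [rowSum_outside hw, hc, h3] at this
  norm_num at this

/-- A vertex outside a clique of size five has exactly two neighbours in it. -/
theorem clique_five {S : Finset V} (hS : Γ.IsClique (S : Set V)) (hc : S.card = 5) {w : V} (hw : w ∉ S) :
    (S.filter fun x => Γ.Adj w x).card = 2 := by
  have hin : ∑ x ∈ S, rowSum Γ S x = 0 := by
    rw [sum_congr rfl fun x hx => rowSum_clique hS hx, sum_const, hc]; norm_num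
  have hsum := sum_rowSum_sq h S
  rw [hin, mul_zero] at hsum
  have := sq_eq_zero_iff.1 ((sum_eq_zero_iff_of_nonneg fun v _ => sq_nonneg _).1 hsum w (mem_univ w))
  rw [rowSum_outside hw, hc] at this
  omega

/-- The common neighbours of three vertices. -/
theorem triple {x y z : V} (hxy : x ≠ y) (hxz : x ≠ z) (hyz : y ≠ z) :
    125 * ((univ.filter fun w => Γ.Adj x w ∧ Γ.Adj y w ∧ Γ.Adj z w).card : ℤ) =
      -4520 + 50 * ((cn Γ x y : ℤ) + cn Γ x z + cn Γ y z)
      + 10 * (gram Γ x y * gram Γ x z + gram Γ y x * gram Γ y z + gram Γ z x * gram Γ z y) := by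
  have e : ∀ w, gram Γ w x * gram Γ w y * gram Γ w z =
      8 - 20 * ind Γ w x - 20 * ind Γ w y - 20 * ind Γ w z
      + 50 * (ind Γ w x * ind Γ w y) + 50 * (ind Γ w x * ind Γ w z) + 50 * (ind Γ w y * ind Γ w z)
      - 125 * (ind Γ w x * ind Γ w y * ind Γ w z)
      + (if w = x then 10 * (gram Γ w y * gram Γ w z) else 0)
      + (if w = y then 10 * (gram Γ w x * gram Γ w z) else 0)
      + (if w = z then 10 * (gram Γ w x * gram Γ w y) else 0) := fun w => by
    simp only [gram]
    rcases eq_or_ne w x with rfl | hx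
    · simp only [if_pos rfl, if_neg hxy, if_neg hxz, if_true]; ring
    rcases eq_or_ne w y with rfl | hy
    · simp only [if_neg hxy.symm, if_neg hyz, if_true]; ring
    rcases eq_or_ne w z with rfl | hz
    · simp only [if_neg hxz.symm, if_neg hyz.symm, if_true]; ring
    simp only [if_neg hx, if_neg hy, if_neg hz]; ring
  have ht : ∑ w, ind Γ w x * ind Γ w y * ind Γ w z =
      ((univ.filter fun w => Γ.Adj x w ∧ Γ.Adj y w ∧ Γ.Adj z w).card : ℤ) := by
    rw [Finset.card_filter]
    push_cast
    refine sum_congr rfl fun w _ => ?_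
    simp only [ind, Γ.adj_comm x w, Γ.adj_comm y w, Γ.adj_comm z w]
    split_ifs <;> simp_all
  have := moment_three h x y z
  simp only [e, sum_add_distrib, sum_sub_distrib, ← mul_sum, sum_ind h, sum_ind_mul, ht, sum_ite_eq',
    mem_univ, if_true, sum_const, card_univ, h.card, nsmul_eq_mul] at this
  push_cast at this
  linarith

/-- An edge and a third vertex adjacent to both have two further common neighbours. -/
theorem triangle {x y z : V} (hxy : Γ.Adj x y) (hxz : Γ.Adj x z) (hyz : Γ.Adj y z) :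
    (univ.filter fun w => Γ.Adj x w ∧ Γ.Adj y w ∧ Γ.Adj z w).card = 2 := by
  have := triple h hxy.ne hxz.ne hyz.ne
  rw [cn_adj h hxy, cn_adj h hxz, cn_adj h hyz, gram_adj hxy, gram_adj hxz, gram_adj hxy.symm, gram_adj hyz,
    gram_adj hxz.symm, gram_adj hyz.symm] at this
  omega

/-- Two nonadjacent neighbours of a vertex have ten common neighbours in its neighbourhood. -/
theorem path {x y z : V} (hxy : Γ.Adj x y) (hxz : Γ.Adj x z) (hne : y ≠ z) (hyz : ¬ Γ.Adj y z) :
    (univ.filter fun w => Γ.Adj x w ∧ Γ.Adj y w ∧ Γ.Adj z w).card = 10 := by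
  have := triple h hxy.ne hxz.ne hne
  rw [cn_adj h hxy, cn_adj h hxz, cn_nonadj h hne hyz, gram_adj hxy, gram_adj hxz, gram_adj hxy.symm,
    gram_nonadj hyz hne, gram_adj hxz.symm, gram_nonadj (fun a => hyz a.symm) hne.symm] at this
  omega

/-- Two adjacent non-neighbours of a vertex have twenty common neighbours among its neighbours. -/
theorem far_adj {x y z : V} (hxy : ¬ Γ.Adj x y) (hxz : ¬ Γ.Adj x z) (hy : x ≠ y) (hz : x ≠ z)
    (hyz : Γ.Adj y z) : (univ.filter fun w => Γ.Adj x w ∧ Γ.Adj y w ∧ Γ.Adj z w).card = 20 := by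
  have := triple h hy hz hyz.ne
  rw [cn_nonadj h hy hxy, cn_nonadj h hz hxz, cn_adj h hyz, gram_nonadj hxy hy, gram_nonadj hxz hz,
    gram_nonadj (fun a => hxy a.symm) hy.symm, gram_adj hyz, gram_nonadj (fun a => hxz a.symm) hz.symm,
    gram_adj hyz.symm] at this
  omega

/-- Two nonadjacent non-neighbours of a vertex have 32 common neighbours among its neighbours. -/
theorem far_nonadj {x y z : V} (hxy : ¬ Γ.Adj x y) (hxz : ¬ Γ.Adj x z) (hy : x ≠ y) (hz : x ≠ z)
    (hne : y ≠ z) (hyz : ¬ Γ.Adj y z) :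
    (univ.filter fun w => Γ.Adj x w ∧ Γ.Adj y w ∧ Γ.Adj z w).card = 32 := by
  have := triple h hy hz hne
  rw [cn_nonadj h hy hxy, cn_nonadj h hz hxz, cn_nonadj h hne hyz, gram_nonadj hxy hy, gram_nonadj hxz hz,
    gram_nonadj (fun a => hxy a.symm) hy.symm, gram_nonadj hyz hne, gram_nonadj (fun a => hxz a.symm) hz.symm,
    gram_nonadj (fun a => hyz a.symm) hne.symm] at this
  omega

end Cfsg.Agent.McLUniq
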