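import Cfsg.Agent.Lib.McLUniq.Moments

/-!
The neighbourhood of a vertex of a strongly regular graph (275, 112, 30, 56) is a generalised quadrangle of
order (3, 9) in which every triad has four centres.
-/

set_option autoImplicit false

namespace Cfsg.Agent.McLUniq

open Finset

variable {V : Type*} [Fintype V] [DecidableEq V] {Γ : SimpleGraph V} [DecidableRel Γ.Adj]

/-- The common neighbours of two vertices. -/
def nb2 (Γ : SimpleGraph V) [DecidableRel Γ.Adj] (a x : V) : Finset V :=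
  univ.filter fun w => Γ.Adj a w ∧ Γ.Adj x w

/-- The common neighbours of three vertices. -/
def nb3 (Γ : SimpleGraph V) [DecidableRel Γ.Adj] (a x y : V) : Finset V :=
  univ.filter fun w => Γ.Adj a w ∧ Γ.Adj x w ∧ Γ.Adj y w

theorem mem_nb2 {a x w : V} : w ∈ nb2 Γ a x ↔ Γ.Adj a w ∧ Γ.Adj x w := by simp [nb2]

theorem mem_nb3 {a x y w : V} : w ∈ nb3 Γ a x y ↔ Γ.Adj a w ∧ Γ.Adj x w ∧ Γ.Adj y w := by simp [nb3]

variable (h : Γ.IsSRGWith 275 112 30 56)
include h

theorem card_nb2 {a x : V} (hx : Γ.Adj a x) : (nb2 Γ a x).card = 30 := cn_adj h hx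

/-- The two further common neighbours of a triangle are adjacent. -/
theorem adj_of_common {a x y u v : V} (hx : Γ.Adj a x) (hy : Γ.Adj a y) (hxy : Γ.Adj x y)
    (hu : u ∈ nb3 Γ a x y) (hv : v ∈ nb3 Γ a x y) (huv : u ≠ v) : Γ.Adj u v := by
  rw [mem_nb3] at hu hv
  by_contra hn
  have hc : Γ.IsClique (({a, x, y, u} : Finset V) : Set V) := by
    rw [coe_insert, coe_insert, coe_insert, coe_singleton]
    refine (((SimpleGraph.isClique_singleton u).insert ?_).insert ?_).insert ?_ <;>
      simp [hu.1, hu.2.1, hu.2.2, hxy, hx, hy]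
  refine clique_four h hc ?_ (w := v) ?_ ?_
  · rw [card_insert_of_notMem, card_insert_of_notMem, card_insert_of_notMem, card_singleton] <;>
      simp [hxy.ne, hu.2.1.ne, hu.2.2.ne, hx.ne, hy.ne, hu.1.ne]
  · simp [hv.1.ne', hv.2.1.ne', hv.2.2.ne', huv.symm]
  · have e : ({a, x, y, u} : Finset V).filter (fun z => Γ.Adj v z) = {a, x, y} := by
      ext z
      simp only [mem_filter, mem_insert, mem_singleton]
      constructor
      · rintro ⟨rfl | rfl | rfl | rfl, hz⟩
        · exact Or.inl rfl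
        · exact Or.inr (Or.inl rfl)
        · exact Or.inr (Or.inr rfl)
        · exact absurd hz.symm hn
      · rintro (rfl | rfl | rfl)
        exacts [⟨Or.inl rfl, hv.1.symm⟩, ⟨Or.inr (Or.inl rfl), hv.2.1.symm⟩,
          ⟨Or.inr (Or.inr (Or.inl rfl)), hv.2.2.symm⟩]
    rw [e, card_insert_of_notMem, card_insert_of_notMem, card_singleton] <;> simp [hxy.ne, hx.ne, hy.ne]

theorem card_nb3_line {a x y : V} (hx : Γ.Adj a x) (hy : Γ.Adj a y) (hxy : Γ.Adj x y) :
    (nb3 Γ a x y).card = 2 := triangle h hx hy hxy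

theorem card_nb3_path {a x y : V} (hx : Γ.Adj a x) (hy : Γ.Adj a y) (hne : x ≠ y) (hxy : ¬ Γ.Adj x y) :
    (nb3 Γ a x y).card = 10 := path h hx hy hne hxy

/-- Two common neighbours of two points on no common line are on no common line. -/
theorem nb3_indep {a x y u v : V} (hx : Γ.Adj a x) (hy : Γ.Adj a y) (hne : x ≠ y) (hxy : ¬ Γ.Adj x y)
    (hu : u ∈ nb3 Γ a x y) (hv : v ∈ nb3 Γ a x y) : ¬ Γ.Adj u v := by
  rw [mem_nb3] at hu hv
  intro huv
  exact hxy (adj_of_common h hu.1 hv.1 huv (mem_nb3.2 ⟨hx, hu.2.1.symm, hv.2.1.symm⟩)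
    (mem_nb3.2 ⟨hy, hu.2.2.symm, hv.2.2.symm⟩) hne)

/-- A line: a clique of size four in the neighbourhood of `a`; every other vertex sees exactly two of it and `a`. -/
theorem line_meets {a : V} {l : Finset V} (hl : Γ.IsClique (l : Set V)) (hc : l.card = 4)
    (hla : ∀ x ∈ l, Γ.Adj a x) {w : V} (hw : w ≠ a) (hwl : w ∉ l) :
    (l.filter fun x => Γ.Adj w x).card + (if Γ.Adj w a then 1 else 0) = 2 := by
  have hal : a ∉ l := fun ha => (hla a ha).ne rfl
  have hS : Γ.IsClique ((insert a l : Finset V) : Set V) := by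
    rw [coe_insert]
    exact hl.insert fun b hb _ => hla b hb
  have := clique_five h hS (by rw [card_insert_of_notMem hal, hc]) (w := w) (by simp [hw, hwl])
  rw [filter_insert] at this
  split_ifs at this ⊢ with ha
  · rwa [card_insert_of_notMem (fun e => hal (mem_filter.1 e).1)] at this
  · simpa using this

/-- A point off a line is collinear with exactly one point of it. -/
theorem line_one {a : V} {l : Finset V} (hl : Γ.IsClique (l : Set V)) (hc : l.card = 4)
    (hla : ∀ x ∈ l, Γ.Adj a x) {w : V} (hw : Γ.Adj a w) (hwl : w ∉ l) :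
    (l.filter fun x => Γ.Adj w x).card = 1 := by
  have := line_meets h hl hc hla hw.ne' hwl
  rw [if_pos hw.symm] at this
  omega

/-- A vertex outside the neighbourhood of `a` sees exactly two points of every line. -/
theorem line_two {a : V} {l : Finset V} (hl : Γ.IsClique (l : Set V)) (hc : l.card = 4)
    (hla : ∀ x ∈ l, Γ.Adj a x) {w : V} (hw : w ≠ a) (haw : ¬ Γ.Adj a w) :
    (l.filter fun x => Γ.Adj w x).card = 2 := by
  have := line_meets h hl hc hla hw (fun e => haw (hla w e))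
  rw [if_neg (fun e => haw e.symm)] at this
  omega

/-- Every triad has four centres. -/
theorem triad {a p q r : V} (hp : Γ.Adj a p) (hq : Γ.Adj a q) (hr : Γ.Adj a r) (hpq : p ≠ q) (hpr : p ≠ r)
    (hqr : q ≠ r) (npq : ¬ Γ.Adj p q) (npr : ¬ Γ.Adj p r) (nqr : ¬ Γ.Adj q r) :
    ((nb3 Γ a p q).filter fun w => Γ.Adj r w).card = 4 := by
  set C := nb3 Γ a p q with hC
  set Z := univ.filter fun w => Γ.Adj a w ∧ ¬ Γ.Adj p w ∧ ¬ Γ.Adj q w ∧ w ≠ p ∧ w ≠ q with hZ
  have hCc : C.card = 10 := card_nb3_path h hp hq hpq npq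
  -- the number of candidates
  have hsplit : univ.filter (fun w => Γ.Adj a w) = Z ∪ ((nb2 Γ a p ∪ nb2 Γ a q) ∪ {p, q}) := by
    ext w
    simp only [hZ, mem_filter, mem_univ, true_and, mem_union, mem_nb2, mem_insert, mem_singleton]
    constructor
    · intro hw
      by_cases h1 : Γ.Adj p w <;> by_cases h2 : Γ.Adj q w <;> by_cases h3 : w = p <;> by_cases h4 : w = q <;>
        simp [hw, h1, h2, h3, h4]
    · rintro (h1 | (⟨h1, -⟩ | ⟨h1, -⟩) | rfl | rfl)
      exacts [h1.1, h1, h1, hp, hq]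
  have hZc : Z.card = 60 := by
    have h1 := card_nbr h a
    rw [hsplit, card_union_of_disjoint (by
      rw [Finset.disjoint_left]
      intro w hw hw'
      simp only [hZ, mem_filter, mem_univ, true_and] at hw
      simp only [mem_union, mem_nb2, mem_insert, mem_singleton] at hw'
      tauto), card_union_of_disjoint (by
      rw [Finset.disjoint_left]
      intro w hw hw'
      simp only [mem_union, mem_nb2] at hw
      simp only [mem_insert, mem_singleton] at hw'
      rcases hw' with rfl | rfl <;> rcases hw with ⟨-, h2⟩ | ⟨-, h2⟩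
      exacts [h2.ne rfl, npq h2.symm, npq h2, h2.ne rfl]), card_pair hpq] at h1
    have h2 := card_union_add_card_inter (nb2 Γ a p) (nb2 Γ a q)
    rw [card_nb2 h hp, card_nb2 h hq, show nb2 Γ a p ∩ nb2 Γ a q = C by
      ext w; simp [hC, mem_nb2, mem_nb3]; tauto, hCc] at h2
    omega
  have hdiag : ∀ c ∈ C, (Z.filter fun w => Γ.Adj c w).card = 24 := by
    intro c hc
    obtain ⟨hca, hcp, hcq⟩ := mem_nb3.1 hc
    have e : nb2 Γ a c = (Z.filter fun w => Γ.Adj c w) ∪ ((nb3 Γ a c p ∪ nb3 Γ a c q) ∪ {p, q}) := by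
      ext w
      simp only [hZ, mem_filter, mem_univ, true_and, mem_union, mem_nb2, mem_nb3, mem_insert, mem_singleton]
      constructor
      · intro hw
        by_cases h1 : Γ.Adj p w <;> by_cases h2 : Γ.Adj q w <;> by_cases h3 : w = p <;> by_cases h4 : w = q <;>
          simp [hw, h1, h2, h3, h4]
      · rintro (⟨⟨h1, -⟩, h2⟩ | (⟨h1, h2, -⟩ | ⟨h1, h2, -⟩) | rfl | rfl)
        exacts [⟨h1, h2⟩, ⟨h1, h2⟩, ⟨h1, h2⟩, ⟨hp, hcp.symm⟩, ⟨hq, hcq.symm⟩]
    have h1 := card_nb2 h hca
    rw [e, card_union_of_disjoint (by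
      rw [Finset.disjoint_left]
      intro w hw hw'
      simp only [hZ, mem_filter, mem_univ, true_and] at hw
      simp only [mem_union, mem_nb3, mem_insert, mem_singleton] at hw'
      tauto), card_union_of_disjoint (by
      rw [Finset.disjoint_left]
      intro w hw hw'
      simp only [mem_union, mem_nb3] at hw
      simp only [mem_insert, mem_singleton] at hw'
      rcases hw' with rfl | rfl <;> rcases hw with ⟨-, -, h2⟩ | ⟨-, -, h2⟩
      exacts [h2.ne rfl, npq h2.symm, npq h2, h2.ne rfl]), card_pair hpq,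
      card_union_of_disjoint (by
      rw [Finset.disjoint_left]
      intro w hw hw'
      obtain ⟨hwa, hwc, hwp⟩ := mem_nb3.1 hw
      exact nb3_indep h hp hq hpq npq hc (mem_nb3.2 ⟨hwa, hwp, (mem_nb3.1 hw').2.2⟩) hwc),
      card_nb3_line h hca hp hcp.symm, card_nb3_line h hca hq hcq.symm] at h1
    omega
  have hoff : ∀ c ∈ C, ∀ d ∈ C, c ≠ d → (Z.filter fun w => Γ.Adj c w ∧ Γ.Adj d w).card = 8 := by
    intro c hc d hd hcd
    obtain ⟨hca, hcp, hcq⟩ := mem_nb3.1 hc
    obtain ⟨hda, hdp, hdq⟩ := mem_nb3.1 hd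
    have ncd := nb3_indep h hp hq hpq npq hc hd
    have e : nb3 Γ a c d = (Z.filter fun w => Γ.Adj c w ∧ Γ.Adj d w) ∪ {p, q} := by
      ext w
      simp only [hZ, mem_filter, mem_univ, true_and, mem_union, mem_nb3, mem_insert, mem_singleton]
      constructor
      · intro hw
        refine or_iff_not_imp_right.2 fun hne => ⟨⟨hw.1, fun h1 => ?_, fun h1 => ?_, ?_⟩, hw.2⟩
        · exact nb3_indep h hca hda hcd ncd (mem_nb3.2 ⟨hp, hcp.symm, hdp.symm⟩) (mem_nb3.2 hw) h1
        · exact nb3_indep h hca hda hcd ncd (mem_nb3.2 ⟨hq, hcq.symm, hdq.symm⟩) (mem_nb3.2 hw) h1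
        · simpa [not_or] using hne
      · rintro (⟨⟨h1, -⟩, h2⟩ | rfl | rfl)
        exacts [⟨h1, h2⟩, ⟨hp, hcp.symm, hdp.symm⟩, ⟨hq, hcq.symm, hdq.symm⟩]
    have h1 := card_nb3_path h hca hda hcd ncd
    rw [e, card_union_of_disjoint (by
      rw [Finset.disjoint_left]
      intro w hw hw'
      simp only [hZ, mem_filter, mem_univ, true_and] at hw
      simp only [mem_insert, mem_singleton] at hw'
      tauto), card_pair hpq] at h1
    omega
  set t : V → ℤ := fun w => ∑ c ∈ C, (if Γ.Adj c w then 1 else 0) with ht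
  have hs1 : ∑ w ∈ Z, t w = 240 := by
    rw [ht, sum_comm, sum_congr rfl fun c hc => show _ = (24 : ℤ) by
      rw [← Finset.natCast_card_filter, hdiag c hc]; rfl, sum_const, hCc]
    norm_num
  have hs2 : ∑ w ∈ Z, t w ^ 2 = 960 := by
    rw [sum_congr rfl fun w _ => show t w ^ 2 = ∑ c ∈ C, ∑ d ∈ C,
      (if Γ.Adj c w ∧ Γ.Adj d w then (1 : ℤ) else 0) by
      rw [ht, sq, sum_mul_sum]
      exact sum_congr rfl fun c _ => sum_congr rfl fun d _ => by split_ifs <;> simp_all]
    rw [sum_comm, sum_congr rfl fun c hc => show _ = (96 : ℤ) by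
      rw [sum_comm, ← add_sum_erase _ _ hc, sum_congr rfl fun d hd => show
          (∑ w ∈ Z, if Γ.Adj c w ∧ Γ.Adj d w then (1 : ℤ) else 0) = 8 by
        rw [← Finset.natCast_card_filter, hoff c hc d (mem_erase.1 hd).2 (mem_erase.1 hd).1.symm]; rfl,
        sum_const, card_erase_of_mem hc, hCc, ← Finset.natCast_card_filter]
      simp only [and_self, hdiag c hc]
      norm_num, sum_const, hCc]
    norm_num
  have hvar : ∑ w ∈ Z, (t w - 4) ^ 2 = 0 := by
    rw [sum_congr rfl fun w _ => show (t w - 4) ^ 2 = t w ^ 2 - 8 * t w + 16 by ring, sum_add_distrib,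
      sum_sub_distrib, ← mul_sum, hs1, hs2, sum_const, hZc]
    norm_num
  have := sq_eq_zero_iff.1 ((sum_eq_zero_iff_of_nonneg fun w _ => sq_nonneg _).1 hvar r
    (by simp [hZ, hr, npr, nqr, hpr.symm, hqr.symm]))
  rw [ht] at this
  simp only [sub_eq_zero, ← Finset.natCast_card_filter] at this
  rw [filter_congr fun w _ => Γ.adj_comm r w]
  exact_mod_cast this

end Cfsg.Agent.McLUniq
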