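import Cfsg.Agent.Lib.McLUniq.Iso
import Cfsg.Agent.Lib.RankThreeUniq.Orbital
import Cfsg.Agent.S2150
import Cfsg.Agent.Lib.U43.SevenNormalizer

/-!
A rank three group on 275 points with subdegrees 112 and 162 and point stabiliser U4(3) is McL.
-/

set_option autoImplicit false

namespace Cfsg.Agent.McLUniq

open Finset

theorem srg_params {V : Type*} [Fintype V] [DecidableEq V] {Γ : SimpleGraph V} [DecidableRel Γ.Adj] {ℓ μ : ℕ}
    (h : Γ.IsSRGWith 275 112 ℓ μ) : ℓ = 30 ∧ μ = 56 := by
  have hp := h.param_eq Γ (by norm_num)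
  obtain ⟨x⟩ : Nonempty V := Fintype.card_pos_iff.1 (by rw [h.card]; norm_num)
  have hdeg : ∀ v, (Γ.neighborFinset v).card = 112 := fun v => h.regular.degree_eq v
  obtain ⟨y, hy⟩ := card_pos.1 (show 0 < (Γ.neighborFinset x).card by rw [hdeg]; norm_num)
  have hl := ((Γ.mem_neighborFinset x y).1 hy).card_commonNeighbors_lt_degree
  rw [h.of_adj x y ((Γ.mem_neighborFinset x y).1 hy), h.regular.degree_eq x] at hl
  by_cases hμ : μ = 0
  · exfalso
    subst hμ
    set B : V → Finset V := fun v => insert v (Γ.neighborFinset v) with hB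
    have hBc : ∀ v, (B v).card = 113 := fun v => by
      rw [hB, card_insert_of_notMem (Γ.notMem_neighborFinset_self v), hdeg]
    have hdis : ∀ u v, v ∉ B u → Disjoint (B u) (B v) := by
      intro u v hv
      simp only [hB, mem_insert, SimpleGraph.mem_neighborFinset, not_or] at hv
      have h0 : Fintype.card (Γ.commonNeighbors u v) = 0 := h.of_not_adj (Ne.symm hv.1) hv.2
      rw [Fintype.card_eq_zero_iff] at h0
      rw [Finset.disjoint_left]
      intro w hw hw'
      simp only [hB, mem_insert, SimpleGraph.mem_neighborFinset] at hw hw'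
      rcases hw with rfl | hw
      · rcases hw' with e | e
        exacts [hv.1 e.symm, hv.2 e.symm]
      · rcases hw' with rfl | hw'
        exacts [hv.2 hw, h0.false ⟨w, hw, hw'⟩]
    obtain ⟨v, hv⟩ : ∃ v, v ∉ B x := by
      by_contra hh; push Not at hh
      have := card_le_card (fun z (_ : z ∈ (univ : Finset V)) => hh z)
      rw [hBc, card_univ, h.card] at this; omega
    obtain ⟨w, hw⟩ : ∃ w, w ∉ B x ∪ B v := by
      by_contra hh; push Not at hh
      have := (card_le_card (fun z (_ : z ∈ (univ : Finset V)) => hh z)).trans (card_union_le _ _)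
      rw [hBc, hBc, card_univ, h.card] at this; omega
    rw [mem_union, not_or] at hw
    have := card_le_univ (B x ∪ B v ∪ B w)
    rw [card_union_of_disjoint (disjoint_union_left.2 ⟨hdis x w hw.1, hdis v w hw.2⟩),
      card_union_of_disjoint (hdis x v hv), hBc, hBc, hBc, h.card] at this
    omega
  · have hμ2 : μ ≤ 112 := by
      obtain ⟨v, hv⟩ : ∃ v, v ∉ insert x (Γ.neighborFinset x) := by
        by_contra hh; push Not at hh
        have := (card_le_card (fun z (_ : z ∈ (univ : Finset V)) => hh z)).trans (card_insert_le _ _)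
        rw [hdeg, card_univ, h.card] at this; omega
      simp only [mem_insert, SimpleGraph.mem_neighborFinset, not_or] at hv
      rw [← h.of_not_adj (Ne.symm hv.1) hv.2, ← h.regular.degree_eq x]
      exact Γ.card_commonNeighbors_le_degree_left x v
    have : 112 * (111 - ℓ) = 162 * μ := by omega
    constructor <;> omega

/-- The recognition theorem. -/
theorem isoMcL {Ω : Type*} [Fintype Ω] [DecidableEq Ω] (hΩ : Fintype.card Ω = 275)
    (G : Subgroup (Equiv.Perm Ω)) [MulAction.IsPretransitive G Ω] (a : Ω) (K : Type) [Field K] [Fintype K]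
    (hK : Fintype.card K = 9) (e : MulAction.stabilizer G a ≃* Cfsg.PSU 4 K 3) (b c : Ω)
    (hb : (MulAction.orbit (MulAction.stabilizer G a) b).ncard = 112)
    (hc : (MulAction.orbit (MulAction.stabilizer G a) c).ncard = 162) : Cfsg.Spor.IsoMcL G := by
  classical
  set Γ := RankThreeUniq.graph G a b
  have hS := RankThreeUniq.isSRG hb hc (by norm_num) (by norm_num) (by norm_num) (by rw [hΩ])
  rw [hΩ] at hS
  obtain ⟨e1, e2⟩ := srg_params hS
  rw [e1, e2] at hS
  obtain ⟨φ, hφ⟩ := exists_iso hS
  let ψ : G →* Equiv.Perm (Fin 275) := φ.symm.permCongrHom.toMonoidHom.comp G.subtype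
  have hψ : ∀ (g : G) x, φ (ψ g x) = g • φ x := fun g x => by
    show φ (φ.symm.permCongr (g : Equiv.Perm Ω) x) = _
    simp [Equiv.permCongr_apply]
    rfl
  have hψinj : Function.Injective ψ :=
    (φ.symm.permCongrHom.injective).comp (Subtype.val_injective)
  have hψA : ψ.range ≤ autPerm := by
    rintro _ ⟨g, rfl⟩
    intro x y
    rw [← hφ, ← hφ, hψ, hψ]
    exact RankThreeUniq.adj_smul g
  set S := MulAction.stabilizer G a with hSdef
  have hScard : Nat.card S = 3265920 := by rw [Nat.card_congr e.toEquiv, U43.card_psu hK]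
  set N : Subgroup G := mclStd.comap ψ with hN
  -- the index of `N`
  have hA := card_autPerm_le hS
  have hrel : mclStd.relIndex autPerm ≤ 75 := by
    have := Subgroup.card_mul_index (mclStd.subgroupOf autPerm)
    rw [Nat.card_congr (Subgroup.subgroupOfEquivOfLe mclStd_le).toEquiv, card_mclStd] at this
    rw [Subgroup.relIndex]
    nlinarith
  have hNi : N.index ≤ 75 := by
    rw [hN, Subgroup.index_comap]
    exact (Subgroup.relIndex_le_of_le_right hψA Subgroup.index_ne_zero_of_finite).trans hrel
  have hSN : S ≤ N := by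
    have h1 : N.relIndex S ≤ 75 := by
      refine le_trans ?_ hNi
      rw [← Subgroup.relIndex_top_right]
      exact Subgroup.relIndex_le_of_le_right le_top Subgroup.index_ne_zero_of_finite
    have h2 : (N.subgroupOf S).comap e.symm.toMonoidHom = ⊤ := by
      by_contra hne
      have := (S2150.result 3 (by rw [hK]; norm_num) (by norm_num)).1 _ hne
      rw [Subgroup.index_comap_of_surjective _ e.symm.surjective] at this
      change _ ≤ N.relIndex S at this
      omega
    intro s hs
    have : e ⟨s, hs⟩ ∈ (N.subgroupOf S).comap e.symm.toMonoidHom := h2 ▸ Subgroup.mem_top _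
    rw [Subgroup.mem_comap, MulEquiv.coe_toMonoidHom, MulEquiv.symm_apply_apply] at this
    exact this
  -- `N` is transitive
  have hNtop : N = ⊤ := by
    rw [← Subgroup.index_eq_one]
    have hprod : S.relIndex N * N.index = 275 := by
      rw [Subgroup.relIndex_mul_index hSN, MulAction.index_stabilizer_of_transitive G a, Nat.card_eq_fintype_card,
        hΩ]
    set O := MulAction.orbit N a with hO
    have hOc : O.ncard = S.relIndex N := by
      rw [hO, ← Nat.card_coe_set_eq, Nat.card_congr (MulAction.orbitEquivQuotientStabilizer N a),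
        Subgroup.relIndex, Subgroup.index]
      rfl
    have hOsub : ∀ z ∈ O, MulAction.orbit S z ⊆ O := by
      rintro z hz _ ⟨⟨s, hs⟩, rfl⟩
      obtain ⟨n, rfl⟩ := hz
      exact ⟨⟨s, hSN hs⟩ * n, mul_smul _ _ _⟩
    have hO3 : O.ncard = 1 ∨ 113 = O.ncard ∨ 163 = O.ncard ∨ O.ncard = 275 := by
      have hd1 : a ∉ MulAction.orbit S b := fun hm => by
        have : MulAction.orbit S b = {a} := (MulAction.orbit_eq_iff.2 hm).symm.trans
          (Set.eq_singleton_iff_unique_mem.2 ⟨MulAction.mem_orbit_self a, by rintro _ ⟨g, rfl⟩; exact g.2⟩)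
        rw [this, Set.ncard_singleton] at hb; omega
      have hd2 : a ∉ MulAction.orbit S c := fun hm => by
        have : MulAction.orbit S c = {a} := (MulAction.orbit_eq_iff.2 hm).symm.trans
          (Set.eq_singleton_iff_unique_mem.2 ⟨MulAction.mem_orbit_self a, by rintro _ ⟨g, rfl⟩; exact g.2⟩)
        rw [this, Set.ncard_singleton] at hc; omega
      have hd3 : Disjoint (MulAction.orbit S b) (MulAction.orbit S c) := Set.disjoint_left.2 fun z h1 h2 => by
        have := congrArg Set.ncard ((MulAction.orbit_eq_iff.2 h1).symm.trans (MulAction.orbit_eq_iff.2 h2))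
        rw [hb, hc] at this; omega
      have huniv : insert a (MulAction.orbit S b ∪ MulAction.orbit S c) = Set.univ := by
        refine Set.eq_of_subset_of_ncard_le (Set.subset_univ _) ?_ (Set.toFinite _)
        rw [Set.ncard_univ, Set.ncard_insert_of_notMem (by simp [hd1, hd2]) (Set.toFinite _),
          Set.ncard_union_eq hd3 (Set.toFinite _) (Set.toFinite _), hb, hc, Nat.card_eq_fintype_card]
        omega
      have hbO : ∀ x, (x ∈ O → MulAction.orbit S x ⊆ O) ∧ (x ∉ O → Disjoint (MulAction.orbit S x) O) := fun x =>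
        ⟨hOsub x, fun hx => Set.disjoint_left.2 fun z hz hzO => hx (hOsub z hzO
          ((MulAction.orbit_eq_iff.2 hz) ▸ MulAction.mem_orbit_self x))⟩
      have ha : a ∈ O := MulAction.mem_orbit_self a
      have hsplit : O = insert a ((MulAction.orbit S b ∩ O) ∪ (MulAction.orbit S c ∩ O)) := by
        ext z
        have := (Set.eq_univ_iff_forall.1 huniv) z
        simp only [Set.mem_insert_iff, Set.mem_union, Set.mem_inter_iff] at this ⊢
        constructor
        · tauto
        · rintro (rfl | ⟨-, h'⟩ | ⟨-, h'⟩) <;> assumption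
      have hval : ∀ x, (MulAction.orbit S x ∩ O).ncard = 0 ∨ (MulAction.orbit S x ∩ O) = MulAction.orbit S x := fun x => by
        by_cases hx : x ∈ O
        · exact Or.inr (Set.inter_eq_left.2 ((hbO x).1 hx))
        · exact Or.inl (by rw [((hbO x).2 hx).inter_eq, Set.ncard_empty])
      have hcard : O.ncard = (MulAction.orbit S b ∩ O).ncard + (MulAction.orbit S c ∩ O).ncard + 1 := by
        conv_lhs => rw [hsplit]
        rw [Set.ncard_insert_of_notMem (by simp [hd1, hd2]) (Set.toFinite _),
          Set.ncard_union_eq (hd3.mono Set.inter_subset_left Set.inter_subset_left) (Set.toFinite _) (Set.toFinite _)]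
      rcases hval b with v1 | v1 <;> rcases hval c with v2 | v2
      · left; omega
      · right; right; left; rw [v2, hc] at hcard; omega
      · right; left; rw [v1, hb] at hcard; omega
      · right; right; right; rw [v1, v2, hb, hc] at hcard; omega
    rw [hOc] at hO3
    rcases hO3 with e | e | e | e
    · rw [e] at hprod; omega
    · rw [← e] at hprod; omega
    · rw [← e] at hprod; omega
    · rw [e] at hprod; omega
  have hle : ψ.range ≤ mclStd := by
    rintro _ ⟨g, rfl⟩
    exact show g ∈ N from hNtop ▸ Subgroup.mem_top g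
  have hcardG : Nat.card G = 898128000 := by
    rw [← Subgroup.card_mul_index S, MulAction.index_stabilizer_of_transitive G a, hScard,
      Nat.card_eq_fintype_card, hΩ]
  have heq : ψ.range = mclStd := by
    refine Subgroup.eq_of_le_of_card_ge hle (le_of_eq ?_)
    rw [card_mclStd, ← Nat.card_congr (MonoidHom.ofInjective hψinj).toEquiv, hcardG]
  obtain ⟨ι⟩ := nonempty_mclStd_equiv
  exact ⟨((MonoidHom.ofInjective hψinj).trans (MulEquiv.subgroupCongr heq)).trans ι⟩

end Cfsg.Agent.McLUniq
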